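import Mathlib
import Groth.Prelude.Def_ega3
import Groth.Agent.Lead.Coh.IdealMul
import Groth.Agent.Lead.Coh.SubRange
import Groth.Agent.H44.SmulModQuot

/-!
# Sections of `CohIII.idealMul J M` over affine opens

For `X` over `Spec A`, an ideal `J` of `A` and a quasi-coherent `O_X`-module `M`, the sections of
`J · M = CohIII.idealMul J M` (the image of `∐_{b ∈ J} M ⟶ M`) over an affine open `U` are
`J · Γ(U, M)`.  Also: the comparison with `Dual3.idealMul` for the ideal sheaf generated by `J`,
and the compatibility of `CohIII.mulMap` with the inclusions.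
-/

set_option autoImplicit false
universe u
open CategoryTheory Limits AlgebraicGeometry Opposite TopologicalSpace

namespace Groth.Agent.H70.Rees

open Groth.Agent.Lead.SubRange Groth.Agent.H44

variable {A : Type u} [CommRing A] {X : Scheme.{u}} [X.Over (Spec (CommRingCat.of A))]

variable (X) in
/-- The ring map `A → Γ(X, U)`. -/
noncomputable def toSections (U : X.Opens) : A →+* Γ(X, U) :=
  (Coh.resTop X (op U)).comp (Coh.toGlobal (X ↘ Spec (CommRingCat.of A)))

theorem smulMod_app_apply (M : X.Modules) (a : A) (U : X.Opens) (m : Γ(M, U)) :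
    (Formal.smulMod A M a).app U m = toSections X U a • m := rfl

variable (X) in
/-- The ideal sheaf `J · O_X` generated by an ideal `J` of `A`. -/
noncomputable def idealSheafOf (J : Ideal A) : X.IdealSheafData :=
  Scheme.IdealSheafData.ofIdealTop (J.map (toSections X ⊤))

theorem idealSheafOf_ideal (J : Ideal A) (U : X.affineOpens) :
    (idealSheafOf X J).ideal U = J.map (toSections X U.1) := by
  change (J.map (toSections X ⊤)).map _ = _
  rw [Ideal.map_map]
  congr 1
  ext a
  change (X.presheaf.map (homOfLE le_top).op).hom (toSections X ⊤ a) = toSections X U.1 a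
  exact Coh.resTop_comp (op ⊤) (op U.1) (homOfLE le_top).op _

instance mono_idealMulι (J : Ideal A) (M : X.Modules) : Mono (CohIII.idealMulι J M) :=
  inferInstanceAs (Mono (Limits.image.ι (Formal.smulFamily J M)))

/-- `J · Γ(U, M) ⊆ Γ(U, J · M)` (no hypotheses on `U` or `M`). -/
theorem smul_top_le_rng_idealMulι (J : Ideal A) (M : X.Modules) (U : X.Opens) :
    (J.map (toSections X U)) • (⊤ : Submodule Γ(X, U) Γ(M, U)) ≤ rng (CohIII.idealMulι J M) U := by
  rw [Submodule.smul_le]
  intro r hr n _
  suffices H : ∀ n : Γ(M, U), r • n ∈ rng (CohIII.idealMulι J M) U from H n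
  refine Submodule.span_induction (p := fun r _ => ∀ n : Γ(M, U), r • n ∈ rng (CohIII.idealMulι J M) U)
    ?_ ?_ ?_ ?_ hr
  · rintro _ ⟨b, hb, rfl⟩ n
    have h : Sigma.ι (fun _ : J => M) ⟨b, hb⟩ ≫ factorThruImage (Formal.smulFamily J M) ≫
        CohIII.idealMulι J M = Formal.smulMod A M b := by
      rw [image.fac]
      exact Sigma.ι_desc _ _
    refine ⟨(Sigma.ι (fun _ : J => M) ⟨b, hb⟩ ≫ factorThruImage (Formal.smulFamily J M)).app U n, ?_⟩
    have h2 := congrArg (fun φ => Scheme.Modules.Hom.app φ U) h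
    simp only [Scheme.Modules.Hom.comp_app] at h2
    have h3 := ConcreteCategory.congr_hom h2 n
    simp only [ConcreteCategory.comp_apply] at h3
    rw [smulMod_app_apply] at h3
    rw [← h3]
    rfl
  · intro n
    rw [zero_smul]
    exact zero_mem _
  · intro x y _ _ hx hy n
    rw [add_smul]
    exact add_mem (hx n) (hy n)
  · intro c x _ hx n
    rw [smul_eq_mul, mul_comm, mul_smul]
    exact hx _

/-- The family `∐_{b ∈ J} M ⟶ M` is killed by the unit `M ⟶ i_* i^* M` of the closed subscheme
`V(J · O_X)`. -/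
theorem smulFamily_comp_η (J : Ideal A) (M : X.Modules) [M.IsQuasicoherent] :
    Formal.smulFamily J M ≫ Groth.Agent.Lead.IdealMul.η (idealSheafOf X J) M = 0 := by
  refine Sigma.hom_ext _ _ fun b => ?_
  rw [comp_zero]
  change Sigma.ι _ b ≫ Sigma.desc _ ≫ _ = 0
  rw [Sigma.ι_desc_assoc]
  refine Groth.Agent.Lead.IdealMul.hom_ext_affine _ _ fun U hU x => ?_
  rw [Scheme.Modules.Hom.comp_app, ConcreteCategory.comp_apply, smulMod_app_apply]
  change _ = 0
  rw [Groth.Agent.Lead.IdealMul.unit_app_eq_zero_iff _ _ hU, idealSheafOf_ideal]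
  exact Submodule.smul_mem_smul (Ideal.mem_map_of_mem _ b.2) Submodule.mem_top

/-- **Sections of `J · M` over an affine open.** For `M` quasi-coherent and `U` affine,
`Γ(U, J · M) = J · Γ(U, M)` inside `Γ(U, M)`. -/
theorem rng_idealMulι (J : Ideal A) (M : X.Modules) [M.IsQuasicoherent] {U : X.Opens}
    (hU : IsAffineOpen U) :
    rng (CohIII.idealMulι J M) U = (J.map (toSections X U)) • (⊤ : Submodule Γ(X, U) Γ(M, U)) := by
  refine le_antisymm ?_ (smul_top_le_rng_idealMulι J M U)
  rintro s ⟨t, rfl⟩
  have h0 : CohIII.idealMulι J M ≫ Groth.Agent.Lead.IdealMul.η (idealSheafOf X J) M = 0 := by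
    have h1 : factorThruImage (Formal.smulFamily J M) ≫
        (CohIII.idealMulι J M ≫ Groth.Agent.Lead.IdealMul.η (idealSheafOf X J) M) = 0 := by
      rw [image.fac_assoc]
      exact smulFamily_comp_η J M
    exact (cancel_epi (factorThruImage (Formal.smulFamily J M))).1 (h1.trans comp_zero.symm)
  have h2 := congrArg (fun φ => Scheme.Modules.Hom.app φ U) h0
  simp only [Scheme.Modules.Hom.comp_app] at h2
  have h3 := ConcreteCategory.congr_hom h2 t
  rw [ConcreteCategory.comp_apply] at h3
  have h4 := (Groth.Agent.Lead.IdealMul.unit_app_eq_zero_iff (idealSheafOf X J) M hU _).1 h3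
  rw [idealSheafOf_ideal] at h4
  exact h4

/-- Comparison of `CohIII.idealMul J M` (image of `∐_{b ∈ J} M ⟶ M`) with `Dual3.idealMul`
(kernel of `M ⟶ i_* i^* M`) for the ideal sheaf generated by `J`, as subobjects of `M`. -/
theorem exists_iso_dual3_idealMul (J : Ideal A) (M : X.Modules) [M.IsQuasicoherent] :
    ∃ e : CohIII.idealMul J M ≅ (Dual3.idealMul (idealSheafOf X J)).obj M,
      e.hom ≫ Dual3.idealMulι (idealSheafOf X J) M = CohIII.idealMulι J M := by
  refine Groth.Agent.Lead.IdealMul.exists_iso_of_range_eq _ _ fun U hU => ?_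
  have h1 := rng_idealMulι J M hU
  have h2 := Groth.Agent.Lead.SubRange.rng_idealMulι (A := M) (idealSheafOf X J) hU
  rw [idealSheafOf_ideal] at h2
  have h3 := h1.trans h2.symm
  exact congrArg (fun S : Submodule Γ(X, U) Γ(M, U) => (S : Set Γ(M, U))) h3

instance isQuasicoherent_idealMul (J : Ideal A) (M : X.Modules) [M.IsQuasicoherent] :
    (CohIII.idealMul J M).IsQuasicoherent := by
  obtain ⟨e, -⟩ := exists_iso_dual3_idealMul J M
  have := Groth.Agent.Lead.SubRange.isQuasicoherent_idealMul (idealSheafOf X J) M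
  exact Groth.Agent.H12.QCohAbelian.isQuasicoherent_of_iso e.symm

/-- `CohIII.mulMap` is multiplication by `a` on the ambient module. -/
theorem mulMap_ι (I J : Ideal A) (M : X.Modules) (a : I) :
    CohIII.mulMap I J M a ≫ CohIII.idealMulι (I * J) M =
      CohIII.idealMulι J M ≫ Formal.smulMod A M (a : A) :=
  image.map_ι (CohIII.mulSq I J M a)

/-- On sections, `CohIII.mulMap` is multiplication by `a`. -/
theorem idealMulι_mulMap_app (I J : Ideal A) (M : X.Modules) (a : I) (U : X.Opens)
    (s : Γ(CohIII.idealMul J M, U)) :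
    (CohIII.idealMulι (I * J) M).app U ((CohIII.mulMap I J M a).app U s) =
      toSections X U (a : A) • (CohIII.idealMulι J M).app U s := by
  have h2 := congrArg (fun φ => Scheme.Modules.Hom.app φ U) (mulMap_ι I J M a)
  simp only [Scheme.Modules.Hom.comp_app] at h2
  have h3 := ConcreteCategory.congr_hom h2 s
  simp only [ConcreteCategory.comp_apply] at h3
  rw [h3, smulMod_app_apply]

/-- The isomorphism `J · M ≅ J' · M` for equal ideals. -/
noncomputable def idealMulCongr {J J' : Ideal A} (h : J = J') (M : X.Modules) :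
    CohIII.idealMul J M ≅ CohIII.idealMul J' M :=
  eqToIso (by rw [h])

@[reassoc (attr := simp)]
theorem idealMulCongr_hom_ι {J J' : Ideal A} (h : J = J') (M : X.Modules) :
    (idealMulCongr h M).hom ≫ CohIII.idealMulι J' M = CohIII.idealMulι J M := by
  subst h
  simp [idealMulCongr]

@[reassoc (attr := simp)]
theorem idealMulCongr_inv_ι {J J' : Ideal A} (h : J = J') (M : X.Modules) :
    (idealMulCongr h M).inv ≫ CohIII.idealMulι J M = CohIII.idealMulι J' M := by
  subst h
  simp [idealMulCongr]

/-- Functoriality of `CohIII.mulMap`: `a ∈ I`, `b ∈ I'`: `(b a)· = b· ∘ a·` up to the identification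
`I' * (I * J) = (I' * I) * J`. -/
theorem mulMap_mulMap (I' I J : Ideal A) (M : X.Modules) (a : I) (b : I') :
    CohIII.mulMap I J M a ≫ CohIII.mulMap I' (I * J) M b =
      CohIII.mulMap (I' * I) J M ⟨(b : A) * (a : A), Ideal.mul_mem_mul b.2 a.2⟩ ≫
        (idealMulCongr (mul_assoc I' I J) M).hom := by
  rw [← cancel_mono (CohIII.idealMulι (I' * (I * J)) M)]
  simp only [Category.assoc, mulMap_ι, idealMulCongr_hom_ι]
  rw [reassoc_of% (mulMap_ι I J M a)]
  rw [CohIII.smulMod_mul]

end Groth.Agent.H70.Rees
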