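import Mathlib

/-!
# Graded bookkeeping over the Rees algebra (piece R1 of the REES chain, S2435)

`A` a commutative ring, `I` an ideal, `S = reesAlgebra I = ⨁ I^r t^r ⊆ A[t]`.
Let `T` be an `S`-module together with an additive decomposition `Θ : T ≃+ ⨁ k, N k` such that the
monomials `a t^r` (`a ∈ I^r`) act homogeneously of degree `r`, through maps `μ r k a : N k →+ N (k + r)`.

* `exists_generation_bound`: if `T` is a finite `S`-module, then there is `k₀` such that for all `k ≥ k₀`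
  and all `r`, `N (k + r)` is generated by the images of `μ r k a`, `a ∈ I^r`.
* `exists_generation_bound_of_fg`: the same for a finitely generated *homogeneous* `S`-submodule `T'`
  of `T` with components `Q k ≤ N k`.
* `exists_generation_bound_of_isNoetherian`: if `T` is a Noetherian `S`-module, the same for every family
  of subgroups `Q k ≤ N k` which is stable under the `μ r k a`.
-/

namespace Groth.Agent.H70.Rees

open Polynomial DirectSum

universe u v w

variable {A : Type u} [CommRing A] (I : Ideal A)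

/-- The monomial `a t^r` of the Rees algebra, for `a ∈ I^r`. -/
noncomputable def mon (r : ℕ) (a : ↥(I ^ r)) : reesAlgebra I :=
  ⟨Polynomial.monomial r (a : A), reesAlgebra.monomial_mem.2 a.2⟩

@[simp] theorem coe_mon (r : ℕ) (a : ↥(I ^ r)) :
    ((mon I r a : reesAlgebra I) : A[X]) = Polynomial.monomial r (a : A) := rfl

theorem mon_add (r : ℕ) (a b : ↥(I ^ r)) : mon I r (a + b) = mon I r a + mon I r b := by
  apply Subtype.ext
  simp [mon]

theorem mon_zero (r : ℕ) : mon I r 0 = 0 := by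
  apply Subtype.ext
  simp [mon]

theorem mon_mul (q r : ℕ) (b : ↥(I ^ q)) (a : ↥(I ^ r)) (c : ↥(I ^ (q + r)))
    (hc : (c : A) = (b : A) * (a : A)) : mon I (q + r) c = mon I r a * mon I q b := by
  apply Subtype.ext
  simp only [coe_mon, MulMemClass.coe_mul, hc, Polynomial.monomial_mul_monomial]
  rw [add_comm, mul_comm]

theorem mon_zero_one (c : ↥(I ^ 0)) (hc : (c : A) = 1) : mon I 0 c = 1 := by
  apply Subtype.ext
  simp [mon, hc]

/-- Every element of the Rees algebra is the sum of its monomials. -/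
theorem eq_sum_mon (s : reesAlgebra I) :
    s = ∑ e ∈ (s : A[X]).support, mon I e ⟨(s : A[X]).coeff e, s.2 e⟩ := by
  apply Subtype.ext
  rw [AddSubmonoidClass.coe_finsetSum]
  simp only [coe_mon]
  exact (s : A[X]).as_sum_support

variable {I}
variable {T : Type v} [AddCommGroup T] [Module (reesAlgebra I) T]
  {N : ℕ → Type w} [∀ k, AddCommGroup (N k)]
  (Θ : T ≃+ ⨁ k, N k)
  (μ : ∀ r k : ℕ, ↥(I ^ r) → (N k →+ N (k + r)))

section core

variable (hμ : ∀ (r : ℕ) (a : ↥(I ^ r)) (x : T) (k : ℕ),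
    Θ (mon I r a • x) (k + r) = μ r k a (Θ x k))
  (hlow : ∀ (r : ℕ) (a : ↥(I ^ r)) (x : T) (l : ℕ), l < r → Θ (mon I r a • x) l = 0)

include hμ hlow in
/-- A monomial of degree `e` moves a homogeneous element of degree `j` to degree `j + e`. -/
theorem component_mon_smul_eq_zero (l e j : ℕ) (c : ↥(I ^ e)) (n' : N j) (hne : l ≠ j + e) :
    Θ (mon I e c • Θ.symm (DirectSum.of N j n')) l = 0 := by
  by_cases hl : l < e
  · exact hlow e c _ l hl
  · obtain ⟨k', rfl⟩ : ∃ k', l = k' + e := ⟨l - e, by omega⟩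
    rw [hμ, Θ.apply_symm_apply, DirectSum.of_eq_of_ne, map_zero]
    omega

include hμ in
/-- The key computation: a monomial of degree `q + r` applied to an element `h` of a homogeneous
submodule lands, in degree `j + q + r`, in the span of the images of the `μ r (j + q) a`. -/
theorem component_mon_smul_mem (T' : Submodule (reesAlgebra I) T) (Q : ∀ k, AddSubgroup (N k))
    (hT' : ∀ x, x ∈ T' → ∀ k, Θ x k ∈ Q k) (j q r : ℕ) (h : T) (hh : h ∈ T')
    (c : ↥(I ^ (q + r))) :
    Θ (mon I (q + r) c • h) (j + q + r) ∈ ⨆ a : ↥(I ^ r), (Q (j + q)).map (μ r (j + q) a) := by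
  obtain ⟨c, hc⟩ := c
  have hc' : c ∈ I ^ q * I ^ r := by rwa [← pow_add]
  -- induction on `c ∈ I^q * I^r`
  suffices H : ∃ hc : c ∈ I ^ (q + r), Θ (mon I (q + r) ⟨c, hc⟩ • h) (j + q + r) ∈
      ⨆ a : ↥(I ^ r), (Q (j + q)).map (μ r (j + q) a) from H.2
  refine Submodule.mul_induction_on hc' ?_ ?_
  · intro b hb a ha
    have hba : b * a ∈ I ^ (q + r) := by rw [pow_add]; exact Ideal.mul_mem_mul hb ha
    refine ⟨hba, ?_⟩
    rw [mon_mul I q r ⟨b, hb⟩ ⟨a, ha⟩ ⟨b * a, hba⟩ rfl, mul_smul, hμ]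
    refine (le_iSup (fun a : ↥(I ^ r) => (Q (j + q)).map (μ r (j + q) a)) ⟨a, ha⟩) ?_
    exact AddSubgroup.mem_map_of_mem _ (hT' _ (T'.smul_mem _ hh) _)
  · rintro x y ⟨hx, hx'⟩ ⟨hy, hy'⟩
    refine ⟨add_mem hx hy, ?_⟩
    have : mon I (q + r) ⟨x + y, add_mem hx hy⟩ = mon I (q + r) ⟨x, hx⟩ + mon I (q + r) ⟨y, hy⟩ :=
      mon_add I (q + r) ⟨x, hx⟩ ⟨y, hy⟩
    rw [this, add_smul, map_add, DirectSum.add_apply]
    exact add_mem hx' hy'

include hμ hlow in
/-- **Generation bound, homogeneous submodule form.** Let `T'` be a finitely generated `S`-submodule of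
`T` which is homogeneous with components `Q k ≤ N k` (i.e. `x ∈ T' ↔ ∀ k, Θ x k ∈ Q k`).  Then there is `d`
such that for `k ≥ d` and all `r`, `Q (k + r)` is generated by the `μ r k a (Q k)`, `a ∈ I^r`. -/
theorem exists_generation_bound_of_fg (T' : Submodule (reesAlgebra I) T) (hfg : T'.FG)
    (Q : ∀ k, AddSubgroup (N k)) (hT' : ∀ x, x ∈ T' ↔ ∀ k, Θ x k ∈ Q k) :
    ∃ d : ℕ, ∀ k : ℕ, d ≤ k → ∀ r : ℕ,
      Q (k + r) ≤ ⨆ a : ↥(I ^ r), (Q k).map (μ r k a) := by
  classical
  obtain ⟨s, hs⟩ := hfg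
  let d : ℕ := s.sup fun x => (Θ x).support.sup id
  refine ⟨d, fun k hk r n hn => ?_⟩
  -- homogeneous generators of degree `≤ d`
  let H : Set T := {h | ∃ j ≤ d, ∃ n' ∈ Q j, h = Θ.symm (DirectSum.of N j n')}
  have hof : ∀ (j : ℕ) (n' : N j), n' ∈ Q j → Θ.symm (DirectSum.of N j n') ∈ T' := by
    intro j n' hn'
    rw [hT']
    intro l
    rw [Θ.apply_symm_apply]
    by_cases hl : l = j
    · subst hl
      rw [DirectSum.of_eq_same]
      exact hn'
    · rw [DirectSum.of_eq_of_ne _ _ _ hl]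
      exact zero_mem _
  have hHT' : H ⊆ T' := by
    rintro _ ⟨j, -, n', hn', rfl⟩
    exact hof j n' hn'
  have hspan : T' ≤ Submodule.span (reesAlgebra I) H := by
    rw [← hs, Submodule.span_le]
    intro x hx
    have hxT' : x ∈ T' := hs ▸ Submodule.subset_span hx
    have hx' : x = ∑ j ∈ (Θ x).support, Θ.symm (DirectSum.of N j (Θ x j)) := by
      apply Θ.injective
      rw [map_sum]
      simp only [AddEquiv.apply_symm_apply]
      exact (DirectSum.sum_support_of (Θ x)).symm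
    rw [hx']
    refine Submodule.sum_mem _ fun j hj =>
      Submodule.subset_span ⟨j, ?_, Θ x j, (hT' x).1 hxT' j, rfl⟩
    calc j ≤ (Θ x).support.sup id := Finset.le_sup (f := id) hj
      _ ≤ d := Finset.le_sup (f := fun x => (Θ x).support.sup id) hx
  have key : ∀ z ∈ Submodule.span (reesAlgebra I) H,
      Θ z (k + r) ∈ ⨆ a : ↥(I ^ r), (Q k).map (μ r k a) := by
    intro z hz
    induction hz using Submodule.closure_induction with
    | zero => rw [map_zero, DirectSum.zero_apply]; exact zero_mem _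
    | add x y _ _ hx' hy' => rw [map_add, DirectSum.add_apply]; exact add_mem hx' hy'
    | smul_mem s h hh =>
      have hhT' : h ∈ T' := hHT' hh
      obtain ⟨j, hjd, n', hn', rfl⟩ := hh
      rw [eq_sum_mon I s, Finset.sum_smul, map_sum, DirectSum.sum_apply]
      refine sum_mem fun e _ => ?_
      by_cases hej : k + r = j + e
      · obtain ⟨q, rfl⟩ := Nat.exists_eq_add_of_le (hjd.trans hk)
        obtain rfl : e = q + r := by omega
        exact component_mon_smul_mem Θ μ hμ T' Q (fun x hx => (hT' x).1 hx) j q r _ hhT' _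
      · rw [component_mon_smul_eq_zero Θ μ hμ hlow _ _ _ _ _ hej]
        exact zero_mem _
  have := key _ (hspan (hof (k + r) n hn))
  rwa [Θ.apply_symm_apply, DirectSum.of_eq_same] at this

include hμ in
/-- If `T'` is an `S`-submodule of `T` which is homogeneous with components `Q k`, then the family `Q` is
stable under all the maps `μ r k a`. -/
theorem map_le_of_submodule (T' : Submodule (reesAlgebra I) T)
    (Q : ∀ k, AddSubgroup (N k)) (hT' : ∀ x, x ∈ T' ↔ ∀ k, Θ x k ∈ Q k)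
    (r k : ℕ) (a : ↥(I ^ r)) : (Q k).map (μ r k a) ≤ Q (k + r) := by
  rintro _ ⟨n, hn, rfl⟩
  have hx : Θ.symm (DirectSum.of N k n) ∈ T' := by
    rw [hT']
    intro l
    rw [Θ.apply_symm_apply]
    by_cases hl : l = k
    · subst hl
      rw [DirectSum.of_eq_same]
      exact hn
    · rw [DirectSum.of_eq_of_ne _ _ _ hl]
      exact zero_mem _
  have := (hT' _).1 (T'.smul_mem (mon I r a) hx) (k + r)
  rwa [hμ, Θ.apply_symm_apply, DirectSum.of_eq_same] at this

/-- An additive subgroup of an `S`-module which is stable under all monomials `a t^e` is stable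
under `S = reesAlgebra I`. -/
theorem smul_mem_of_mon_smul_mem (P : AddSubgroup T)
    (h : ∀ (e : ℕ) (c : ↥(I ^ e)) (x : T), x ∈ P → mon I e c • x ∈ P)
    (s : reesAlgebra I) (x : T) (hx : x ∈ P) : s • x ∈ P := by
  rw [eq_sum_mon I s, Finset.sum_smul]
  exact sum_mem fun e _ => h e _ x hx

/-- An additive subgroup of an `S`-module which is stable under the monomials of degree `0` and `1`
is stable under all monomials. -/
theorem mon_smul_mem_of_deg_le_one (P : AddSubgroup T)
    (h0 : ∀ (c : ↥(I ^ 0)) (x : T), x ∈ P → mon I 0 c • x ∈ P)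
    (h1 : ∀ (c : ↥(I ^ 1)) (x : T), x ∈ P → mon I 1 c • x ∈ P) :
    ∀ (e : ℕ) (c : ↥(I ^ e)) (x : T), x ∈ P → mon I e c • x ∈ P := by
  intro e
  induction e with
  | zero => exact h0
  | succ e ih =>
    rintro ⟨c, hc⟩ x hx
    have hc' : c ∈ I ^ e * I ^ 1 := by rwa [← pow_add]
    suffices H : ∃ hc : c ∈ I ^ (e + 1), mon I (e + 1) ⟨c, hc⟩ • x ∈ P from H.2
    refine Submodule.mul_induction_on hc' ?_ ?_
    · intro b hb a ha
      have hba : b * a ∈ I ^ (e + 1) := by rw [pow_add]; exact Ideal.mul_mem_mul hb ha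
      refine ⟨hba, ?_⟩
      rw [mon_mul I e 1 ⟨b, hb⟩ ⟨a, ha⟩ ⟨b * a, hba⟩ rfl, mul_smul]
      exact h1 _ _ (ih _ _ hx)
    · rintro y z ⟨hy, hy'⟩ ⟨hz, hz'⟩
      refine ⟨add_mem hy hz, ?_⟩
      have : mon I (e + 1) ⟨y + z, add_mem hy hz⟩ =
          mon I (e + 1) ⟨y, hy⟩ + mon I (e + 1) ⟨z, hz⟩ := mon_add I (e + 1) ⟨y, hy⟩ ⟨z, hz⟩
      rw [this, add_smul]
      exact add_mem hy' hz'

/-- The additive subgroup of `T` of the elements all of whose components lie in the `Q k`. -/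
def homogeneousAddSubgroup (Q : ∀ k, AddSubgroup (N k)) : AddSubgroup T where
  carrier := {x | ∀ k, Θ x k ∈ Q k}
  zero_mem' k := by rw [map_zero, DirectSum.zero_apply]; exact zero_mem _
  add_mem' hx hy k := by rw [map_add, DirectSum.add_apply]; exact add_mem (hx k) (hy k)
  neg_mem' hx k := by
    rw [map_neg]
    change (-(Θ _)) k ∈ Q k
    rw [show (-(Θ _)) k = -((Θ _) k) from rfl]
    exact neg_mem (hx k)

theorem mem_homogeneousAddSubgroup (Q : ∀ k, AddSubgroup (N k)) (x : T) :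
    x ∈ homogeneousAddSubgroup Θ Q ↔ ∀ k, Θ x k ∈ Q k := Iff.rfl

include hμ hlow in
/-- If the family `Q` is stable under the `μ e k c`, then `homogeneousAddSubgroup Θ Q` is stable
under the monomial `c t^e`. -/
theorem mon_smul_mem_homogeneousAddSubgroup (Q : ∀ k, AddSubgroup (N k)) (e : ℕ) (c : ↥(I ^ e))
    (hQ : ∀ k : ℕ, (Q k).map (μ e k c) ≤ Q (k + e)) (x : T)
    (hx : x ∈ homogeneousAddSubgroup Θ Q) : mon I e c • x ∈ homogeneousAddSubgroup Θ Q := by
  intro l
  by_cases hl : l < e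
  · rw [hlow e c x l hl]
    exact zero_mem _
  · obtain ⟨k', rfl⟩ : ∃ k', l = k' + e := ⟨l - e, by omega⟩
    rw [hμ]
    exact hQ k' (AddSubgroup.mem_map_of_mem _ (hx k'))

include hμ hlow in
/-- **Generation bound, Noetherian form (degree `≤ 1` stability).** Let `T` be a Noetherian
`S`-module and let `Q k ≤ N k` be subgroups stable under the `μ 0 k a` (`a ∈ I^0 = A`) and the
`μ 1 k a` (`a ∈ I^1 = I`).  Then there is `d` such that for all `k ≥ d` and all `r`,
`Q (k + r)` is the sum of the `μ r k a (Q k)`, `a ∈ I^r`. -/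
theorem exists_generation_bound_of_isNoetherian [IsNoetherian (reesAlgebra I) T]
    (Q : ∀ k, AddSubgroup (N k))
    (hQ0 : ∀ (k : ℕ) (a : ↥(I ^ 0)), (Q k).map (μ 0 k a) ≤ Q (k + 0))
    (hQ1 : ∀ (k : ℕ) (a : ↥(I ^ 1)), (Q k).map (μ 1 k a) ≤ Q (k + 1)) :
    ∃ d : ℕ, ∀ k : ℕ, d ≤ k → ∀ r : ℕ,
      (⨆ a : ↥(I ^ r), (Q k).map (μ r k a)) = Q (k + r) := by
  let P := homogeneousAddSubgroup Θ Q
  have hP : ∀ (s : reesAlgebra I) (x : T), x ∈ P → s • x ∈ P :=
    smul_mem_of_mon_smul_mem P (mon_smul_mem_of_deg_le_one P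
      (fun c x hx => mon_smul_mem_homogeneousAddSubgroup Θ μ hμ hlow Q 0 c (fun k => hQ0 k c) x hx)
      (fun c x hx => mon_smul_mem_homogeneousAddSubgroup Θ μ hμ hlow Q 1 c (fun k => hQ1 k c) x hx))
  let T' : Submodule (reesAlgebra I) T :=
    { carrier := P
      zero_mem' := P.zero_mem
      add_mem' := P.add_mem
      smul_mem' := fun s x hx => hP s x hx }
  have hT' : ∀ x, x ∈ T' ↔ ∀ k, Θ x k ∈ Q k := fun x => Iff.rfl
  obtain ⟨d, hd⟩ := exists_generation_bound_of_fg Θ μ hμ hlow T' (IsNoetherian.noetherian T') Q hT'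
  refine ⟨d, fun k hk r => le_antisymm (iSup_le fun a => ?_) (hd k hk r)⟩
  exact map_le_of_submodule Θ μ hμ T' Q hT' r k a

include hμ hlow in
/-- **Generation bound (piece R1 of the REES chain).** Let `T` be a finite module over the Rees algebra
`S = reesAlgebra I`, with an additive decomposition `Θ : T ≃+ ⨁ k, N k` for which the monomials
`a t^r` (`a ∈ I^r`) act homogeneously of degree `r` through `μ r k a : N k →+ N (k + r)`.  Then there is
`k₀` such that for all `k ≥ k₀` and all `r`, the group `N (k + r)` is generated by the images of the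
`μ r k a`, `a ∈ I^r`. -/
theorem exists_generation_bound [Module.Finite (reesAlgebra I) T] :
    ∃ k₀ : ℕ, ∀ k : ℕ, k₀ ≤ k → ∀ r : ℕ, (⨆ a : ↥(I ^ r), (μ r k a).range) = ⊤ := by
  obtain ⟨d, hd⟩ := exists_generation_bound_of_fg Θ μ hμ hlow ⊤ Module.Finite.fg_top
    (fun _ => ⊤) (fun x => by simp)
  refine ⟨d, fun k hk r => ?_⟩
  have := hd k hk r
  simp only [← AddMonoidHom.range_eq_map] at this
  exact top_le_iff.1 this

/-- **Generation bound, with the codomains of the multiplication maps only isomorphic to `N (k + r)`.**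
This is the shape needed for `S2435`, where multiplication by `a ∈ m^r` goes
`H^p(X, m^k F) → H^p(X, (m^r * m^k) F)` and `(m^r * m^k) F ≅ m^(k + r) F`. -/
theorem exists_generation_bound' {M : ℕ → ℕ → Type*} [∀ r k, AddCommGroup (M r k)]
    (ε : ∀ r k : ℕ, M r k ≃+ N (k + r)) (μ' : ∀ r k : ℕ, ↥(I ^ r) → (N k →+ M r k))
    (hμ' : ∀ (r : ℕ) (a : ↥(I ^ r)) (x : T) (k : ℕ),
      Θ (mon I r a • x) (k + r) = ε r k (μ' r k a (Θ x k)))
    (hlow : ∀ (r : ℕ) (a : ↥(I ^ r)) (x : T) (l : ℕ), l < r → Θ (mon I r a • x) l = 0)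
    [Module.Finite (reesAlgebra I) T] :
    ∃ k₀ : ℕ, ∀ k : ℕ, k₀ ≤ k → ∀ r : ℕ, (⨆ a : ↥(I ^ r), (μ' r k a).range) = ⊤ := by
  obtain ⟨k₀, h⟩ := exists_generation_bound Θ
    (fun r k a => (ε r k).toAddMonoidHom.comp (μ' r k a)) (fun r a x k => hμ' r a x k) hlow
  refine ⟨k₀, fun k hk r => ?_⟩
  have h1 := h k hk r
  have h2 : (⨆ a : ↥(I ^ r), (μ' r k a).range).map (ε r k).toAddMonoidHom = ⊤ := by
    rw [AddSubgroup.map_iSup, ← h1]
    exact iSup_congr fun a => (AddMonoidHom.range_comp _ _).symm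
  have h3 := congrArg (AddSubgroup.comap (ε r k).toAddMonoidHom) h2
  rwa [AddSubgroup.comap_map_eq_self_of_injective (ε r k).injective, AddSubgroup.comap_top] at h3

end core

end Groth.Agent.H70.Rees
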