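import Mathlib
import Groth.Agent.H44.PullUnit
import Groth.Agent.H71.QCoh.ExactSections
import Groth.Agent.H8.PushQCoh
import Groth.Agent.H12.QCohAbelian
import Groth.Agent.Lead.Coh.SubRange

/-!
# Sections of the image of a morphism of quasi-coherent modules, and of the unit `G ⟶ h_* h^* G`

* `isQuasicoherent_image`, `rng_image_ι`: for `φ : M ⟶ N` between quasi-coherent modules and `U` affine,
  `Γ(U, image φ) = image Γ(U, φ)`.
* `unit_app_apply`: the unit `G ⟶ h_* h^* G` on sections is `pullSect`.
-/

set_option autoImplicit false
universe u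
open CategoryTheory Limits AlgebraicGeometry Opposite TopologicalSpace

namespace Groth.Agent.H70.Rees

open Groth.Agent.Lead.SubRange Groth.Agent.H44

section Image

variable {X : Scheme.{u}} {M N : X.Modules} [M.IsQuasicoherent] [N.IsQuasicoherent] (φ : M ⟶ N)

instance isQuasicoherent_image : (Limits.image φ).IsQuasicoherent := by
  have := Groth.Agent.H12.QCohAbelian.isQuasicoherent_image φ
  exact Groth.Agent.H12.QCohAbelian.isQuasicoherent_of_iso (Abelian.imageIsoImage φ)

/-- Sections of the image sheaf over an affine open are the image of the sections. -/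
theorem rng_image_ι {U : X.Opens} (hU : IsAffineOpen U) :
    rng (Limits.image.ι φ) U = rng φ U := by
  have h : factorThruImage φ ≫ Limits.image.ι φ = φ := image.fac φ
  conv_rhs => rw [← h]
  rw [rng_comp]
  have hs : rng (factorThruImage φ) U = ⊤ := by
    rw [eq_top_iff]
    intro y _
    obtain ⟨x, hx⟩ := Groth.Agent.H71.QCoh.app_surjective_of_epi (factorThruImage φ) hU y
    exact ⟨x, hx⟩
  rw [hs, Submodule.map_top]
  rfl

end Image

end Groth.Agent.H70.Rees
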