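import Mathlib
import Groth.Prelude.Def_ega3
import Groth.Agent.H70.Rees.UnitImage
import Groth.Agent.H70.Rees.IdealMulSections

/-!
# The Rees set-up (piece R2 of the REES chain): definitions

For a scheme `X` over `Spec A` and `A`-algebras `S → T`:
* `XS A S X = X ×_A Spec S`, with `gS : XS A S X ⟶ X` (affine) and its structure of scheme over `Spec S`;
* `hST : XS A T X ⟶ XS A S X` (affine), with `hST ≫ gS = gS`;
* for `F : X.Modules`: `amb A S T F = h_* h^* g^* F` on `X_S`, the unit `ηR : g^*F ⟶ amb`, and the **Rees sheaf**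
  `Rsh A S T F = image ηR` with its inclusion `Rι : Rsh ⟶ amb`.
In the application `S = reesAlgebra I`, `T = A[X]`, and `Rsh` is `⨁_k I^k F t^k` on `X_S`.
-/

set_option autoImplicit false
universe u
open CategoryTheory Limits AlgebraicGeometry Opposite TopologicalSpace

namespace Groth.Agent.H70.Rees

variable (A S T : Type u) [CommRing A] [CommRing S] [CommRing T] [Algebra A S] [Algebra A T]
  [Algebra S T] [IsScalarTower A S T]
  (X : Scheme.{u}) [X.Over (Spec (CommRingCat.of A))]

/-- `X_S = X ×_A Spec S`. -/
noncomputable def XS : Scheme.{u} :=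
  pullback (X ↘ Spec (CommRingCat.of A)) (Spec.map (CommRingCat.ofHom (algebraMap A S)))

/-- The projection `X_S ⟶ X`. -/
noncomputable def gS : XS A S X ⟶ X :=
  pullback.fst (X ↘ Spec (CommRingCat.of A)) (Spec.map (CommRingCat.ofHom (algebraMap A S)))

/-- The projection `X_S ⟶ Spec S`. -/
noncomputable def sS : XS A S X ⟶ Spec (CommRingCat.of S) :=
  pullback.snd (X ↘ Spec (CommRingCat.of A)) (Spec.map (CommRingCat.ofHom (algebraMap A S)))

noncomputable instance overXS : (XS A S X).Over (Spec (CommRingCat.of S)) := ⟨sS A S X⟩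

theorem over_XS : (XS A S X ↘ Spec (CommRingCat.of S)) = sS A S X := rfl

theorem gS_comp_over : gS A S X ≫ (X ↘ Spec (CommRingCat.of A)) =
    sS A S X ≫ Spec.map (CommRingCat.ofHom (algebraMap A S)) :=
  pullback.condition

theorem isPullback_XS : IsPullback (gS A S X) (sS A S X) (X ↘ Spec (CommRingCat.of A))
    (Spec.map (CommRingCat.ofHom (algebraMap A S))) :=
  IsPullback.of_hasPullback _ _

instance isAffineHom_gS : IsAffineHom (gS A S X) :=
  MorphismProperty.pullback_fst _ _ inferInstance

instance isProper_sS [IsProper (X ↘ Spec (CommRingCat.of A))] : IsProper (sS A S X) :=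
  inferInstanceAs (IsProper (pullback.snd (X ↘ Spec (CommRingCat.of A))
    (Spec.map (CommRingCat.ofHom (algebraMap A S)))))

instance isProper_over_XS [IsProper (X ↘ Spec (CommRingCat.of A))] :
    IsProper (XS A S X ↘ Spec (CommRingCat.of S)) := isProper_sS A S X

/-- The morphism `X_T ⟶ X_S` induced by `S → T`. -/
noncomputable def hST : XS A T X ⟶ XS A S X :=
  pullback.lift (gS A T X) (sS A T X ≫ Spec.map (CommRingCat.ofHom (algebraMap S T))) (by
    rw [gS_comp_over, Category.assoc, ← Spec.map_comp, ← CommRingCat.ofHom_comp,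
      ← IsScalarTower.algebraMap_eq])

@[reassoc (attr := simp)]
theorem hST_gS : hST A S T X ≫ gS A S X = gS A T X := pullback.lift_fst _ _ _

@[reassoc (attr := simp)]
theorem hST_sS : hST A S T X ≫ sS A S X =
    sS A T X ≫ Spec.map (CommRingCat.ofHom (algebraMap S T)) := pullback.lift_snd _ _ _

instance isAffineHom_hST : IsAffineHom (hST A S T X) := by
  have : IsAffineHom (hST A S T X ≫ gS A S X) := by rw [hST_gS]; infer_instance
  exact IsAffineHom.of_comp (hST A S T X) (gS A S X)

variable {X}

/-- The ambient module `h_* h^* g^* F` on `X_S`. -/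
noncomputable def amb (F : X.Modules) : (XS A S X).Modules :=
  (Scheme.Modules.pushforward (hST A S T X)).obj
    ((Scheme.Modules.pullback (hST A S T X)).obj ((Scheme.Modules.pullback (gS A S X)).obj F))

/-- The unit `g^* F ⟶ h_* h^* g^* F`. -/
noncomputable def ηR (F : X.Modules) : (Scheme.Modules.pullback (gS A S X)).obj F ⟶ amb A S T F :=
  (Scheme.Modules.pullbackPushforwardAdjunction (hST A S T X)).unit.app _

/-- The **Rees sheaf** on `X_S`: the image of `g^*F ⟶ h_* h^* g^* F`. -/
noncomputable def Rsh (F : X.Modules) : (XS A S X).Modules := Limits.image (ηR A S T F)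

/-- The inclusion of the Rees sheaf into the ambient module. -/
noncomputable def Rι (F : X.Modules) : Rsh A S T F ⟶ amb A S T F := Limits.image.ι (ηR A S T F)

/-- The projection of `g^*F` onto the Rees sheaf. -/
noncomputable def Rπ (F : X.Modules) : (Scheme.Modules.pullback (gS A S X)).obj F ⟶ Rsh A S T F :=
  factorThruImage (ηR A S T F)

instance mono_Rι (F : X.Modules) : Mono (Rι A S T F) :=
  inferInstanceAs (Mono (Limits.image.ι (ηR A S T F)))

instance epi_Rπ (F : X.Modules) : Epi (Rπ A S T F) :=
  inferInstanceAs (Epi (factorThruImage (ηR A S T F)))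

@[reassoc (attr := simp)]
theorem Rπ_Rι (F : X.Modules) : Rπ A S T F ≫ Rι A S T F = ηR A S T F := image.fac _

section QCoh

variable (F : X.Modules) [F.IsQuasicoherent]

instance isQuasicoherent_pullback_gS : ((Scheme.Modules.pullback (gS A S X)).obj F).IsQuasicoherent :=
  inferInstance

instance isQuasicoherent_amb : (amb A S T F).IsQuasicoherent :=
  Groth.Agent.H8.isQuasicoherent_pushforward_of_isAffineHom _ _

instance isQuasicoherent_Rsh : (Rsh A S T F).IsQuasicoherent :=
  inferInstanceAs (Limits.image (ηR A S T F)).IsQuasicoherent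

end QCoh

end Groth.Agent.H70.Rees
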