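import Mathlib
import Groth.Agent.H70.Rees.Setup

/-!
# The Rees set-up: rings of sections over affine charts

For `U ⊆ X` affine, `V = g⁻¹U ⊆ X_S`: `Γ(X_S, V) = Γ(X, U) ⊗_A S` (as a pushout square of rings), with the
induction principle `sections_induction` and, for `S` free over `A`, the basis `sectionsBasis`.
The open `V` is a variable with a propositional equality `hV : V = g⁻¹U`, so that the results also apply
to `h⁻¹(g⁻¹U) ⊆ X_T`.
-/

set_option autoImplicit false
universe u
open CategoryTheory Limits AlgebraicGeometry Opposite TopologicalSpace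

namespace Groth.Agent.H70.Rees

variable (A S : Type u) [CommRing A] [CommRing S] [Algebra A S]
  {X : Scheme.{u}} [X.Over (Spec (CommRingCat.of A))]

/-- `V = g⁻¹ U ⊆ X_S`. -/
noncomputable abbrev VS (U : X.Opens) : (XS A S X).Opens := gS A S X ⁻¹ᵁ U

theorem isAffineOpen_VS {U : X.Opens} (hU : IsAffineOpen U) : IsAffineOpen (VS A S U) :=
  hU.preimage (gS A S X)

theorem toSections_eq (U : X.Opens) :
    CommRingCat.ofHom (toSections (A := A) X U) =
      (Scheme.ΓSpecIso (CommRingCat.of A)).inv ≫
        (X ↘ Spec (CommRingCat.of A)).appLE ⊤ U le_top := by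
  ext a
  change (X.presheaf.map (homOfLE le_top).op).hom
      ((X ↘ Spec (CommRingCat.of A)).appTop.hom ((Scheme.ΓSpecIso (CommRingCat.of A)).inv.hom a)) = _
  rw [Scheme.Hom.appLE]
  rfl

variable {U : X.Opens} {V : (XS A S X).Opens} (hV : V = gS A S X ⁻¹ᵁ U)

include hV in
/-- The square of rings of sections commutes (no affineness needed). -/
theorem isPushout_sections_w :
    CommRingCat.ofHom (toSections (A := A) X U) ≫ (gS A S X).appLE U V hV.le =
      CommRingCat.ofHom (algebraMap A S) ≫
        CommRingCat.ofHom (toSections (A := S) (XS A S X) V) := by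
  rw [toSections_eq, toSections_eq, Category.assoc, Scheme.Hom.appLE_comp_appLE]
  simp only [gS_comp_over]
  have h1 := Scheme.Hom.appLE_comp_appLE (sS A S X) (Spec.map (CommRingCat.ofHom (algebraMap A S)))
    ⊤ ⊤ V le_top le_top
  have h2 : (Spec.map (CommRingCat.ofHom (algebraMap A S))).appLE ⊤ ⊤ le_top =
      (Spec.map (CommRingCat.ofHom (algebraMap A S))).appTop := by
    simp [Scheme.Hom.appLE]
  rw [← h1, h2, ← Category.assoc, ← Scheme.ΓSpecIso_inv_naturality, Category.assoc]
  rfl

include hV in
/-- The pushout square of rings `Γ(X_S, g⁻¹U) = Γ(X, U) ⊗_A S`. -/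
theorem isPushout_sections (hU : IsAffineOpen U) :
    IsPushout (CommRingCat.ofHom (toSections (A := A) X U))
      (CommRingCat.ofHom (algebraMap A S))
      ((gS A S X).appLE U V hV.le)
      (CommRingCat.ofHom (toSections (A := S) (XS A S X) V)) := by
  have H := isPullback_XS A S X
  have hUY : V = gS A S X ⁻¹ᵁ U ⊓ sS A S X ⁻¹ᵁ ⊤ := by rw [hV]; simp
  have h1 := (isIso_pushoutSection_iff H (US := ⊤) (UT := ⊤) (UX := U) le_top le_top hUY).1
    (isIso_pushoutSection_of_isAffineOpen H le_top le_top hUY (isAffineOpen_top _)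
      (isAffineOpen_top _) hU)
  refine IsPushout.of_iso h1 (Scheme.ΓSpecIso (CommRingCat.of A)) (Iso.refl _)
    (Scheme.ΓSpecIso (CommRingCat.of S)) (Iso.refl _) ?_ ?_ ?_ ?_
  · rw [toSections_eq, Iso.hom_inv_id_assoc, Iso.refl_hom, Category.comp_id]
  · rw [← Scheme.ΓSpecIso_naturality]
    congr 1
  · simp
  · rw [toSections_eq, Iso.hom_inv_id_assoc, Iso.refl_hom, Category.comp_id]
    rfl

section Alg

/-- `Γ(X, U)` as an `A`-algebra. -/
@[instance_reducible] noncomputable def algAU (U : X.Opens) : Algebra A Γ(X, U) :=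
  (toSections (A := A) X U).toAlgebra

/-- `Γ(X_S, V)` as a `Γ(X, U)`-algebra, for `V ≤ g⁻¹U`. -/
@[instance_reducible] noncomputable def algUV {U : X.Opens} {V : (XS A S X).Opens}
    (hV : V ≤ gS A S X ⁻¹ᵁ U) : Algebra Γ(X, U) Γ(XS A S X, V) :=
  ((gS A S X).appLE U V hV).hom.toAlgebra

include hV in
theorem appLE_toSections (a : A) :
    ((gS A S X).appLE U V hV.le).hom (toSections (A := A) X U a) =
      toSections (A := S) (XS A S X) V (algebraMap A S a) := by
  have h := (isPushout_sections_w A S hV)
  exact congr($h a)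

/-- The `Algebra.IsPushout` form of `isPushout_sections`. -/
theorem algebra_isPushout_sections (hU : IsAffineOpen U) :
    letI := algAU A U
    letI := algUV A S hV.le
    letI : Algebra S Γ(XS A S X, V) := algAU S (X := XS A S X) V
    letI : Algebra A Γ(XS A S X, V) :=
      ((algebraMap S Γ(XS A S X, V)).comp (algebraMap A S)).toAlgebra
    haveI : IsScalarTower A S Γ(XS A S X, V) := IsScalarTower.of_algebraMap_eq' rfl
    haveI : IsScalarTower A Γ(X, U) Γ(XS A S X, V) :=
      IsScalarTower.of_algebraMap_eq' (by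
        ext a
        exact (appLE_toSections A S hV a).symm)
    Algebra.IsPushout A Γ(X, U) S Γ(XS A S X, V) := by
  letI := algAU A U
  letI := algUV A S hV.le
  letI : Algebra S Γ(XS A S X, V) := algAU S (X := XS A S X) V
  letI : Algebra A Γ(XS A S X, V) :=
    ((algebraMap S Γ(XS A S X, V)).comp (algebraMap A S)).toAlgebra
  haveI : IsScalarTower A S Γ(XS A S X, V) := IsScalarTower.of_algebraMap_eq' rfl
  haveI : IsScalarTower A Γ(X, U) Γ(XS A S X, V) :=
    IsScalarTower.of_algebraMap_eq' (by
      ext a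
      exact (appLE_toSections A S hV a).symm)
  exact CommRingCat.isPushout_iff_isPushout.1 (isPushout_sections A S hV hU)

include hV in
/-- Induction principle for `Γ(X_S, g⁻¹U) = Γ(X, U) ⊗_A S`: it is generated, as a `Γ(X, U)`-module,
by the image of `S`. -/
theorem sections_induction (hU : IsAffineOpen U)
    (P : Γ(XS A S X, V) → Prop) (h0 : P 0)
    (hS : ∀ σ : S, P (toSections (A := S) (XS A S X) V σ))
    (hsmul : ∀ (b : Γ(X, U)) (x : Γ(XS A S X, V)), P x →
      P (((gS A S X).appLE U V hV.le).hom b * x))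
    (hadd : ∀ x y, P x → P y → P (x + y)) (x : Γ(XS A S X, V)) : P x := by
  letI := algAU A U
  letI := algUV A S hV.le
  letI : Algebra S Γ(XS A S X, V) := algAU S (X := XS A S X) V
  letI : Algebra A Γ(XS A S X, V) :=
    ((algebraMap S Γ(XS A S X, V)).comp (algebraMap A S)).toAlgebra
  haveI : IsScalarTower A S Γ(XS A S X, V) := IsScalarTower.of_algebraMap_eq' rfl
  haveI : IsScalarTower A Γ(X, U) Γ(XS A S X, V) :=
    IsScalarTower.of_algebraMap_eq' (by
      ext a
      exact (appLE_toSections A S hV a).symm)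
  have hp : Algebra.IsPushout A Γ(X, U) S Γ(XS A S X, V) := algebra_isPushout_sections A S hV hU
  exact hp.out.inductionOn x P h0 (fun σ => hS σ) (fun b y hy => hsmul b y hy) hadd

/-- If `S` is free over `A` with basis `b`, then `Γ(X_S, g⁻¹U)` is free over `Γ(X, U)` with basis the
images of the `b i`. -/
noncomputable def sectionsBasis (hU : IsAffineOpen U) {ι : Type*} (b : Module.Basis ι A S) :
    letI := algUV A S hV.le
    Module.Basis ι Γ(X, U) Γ(XS A S X, V) := by
  letI := algAU A U
  letI := algUV A S hV.le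
  letI : Algebra S Γ(XS A S X, V) := algAU S (X := XS A S X) V
  letI : Algebra A Γ(XS A S X, V) :=
    ((algebraMap S Γ(XS A S X, V)).comp (algebraMap A S)).toAlgebra
  haveI : IsScalarTower A S Γ(XS A S X, V) := IsScalarTower.of_algebraMap_eq' rfl
  haveI : IsScalarTower A Γ(X, U) Γ(XS A S X, V) :=
    IsScalarTower.of_algebraMap_eq' (by
      ext a
      exact (appLE_toSections A S hV a).symm)
  have hp : Algebra.IsPushout A Γ(X, U) S Γ(XS A S X, V) := algebra_isPushout_sections A S hV hU
  exact (Algebra.TensorProduct.basis Γ(X, U) b).map hp.out.equiv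

theorem sectionsBasis_apply (hU : IsAffineOpen U) {ι : Type*} (b : Module.Basis ι A S) (i : ι) :
    letI := algUV A S hV.le
    sectionsBasis A S hV hU b i = toSections (A := S) (XS A S X) V (b i) := by
  letI := algAU A U
  letI := algUV A S hV.le
  letI : Algebra S Γ(XS A S X, V) := algAU S (X := XS A S X) V
  letI : Algebra A Γ(XS A S X, V) :=
    ((algebraMap S Γ(XS A S X, V)).comp (algebraMap A S)).toAlgebra
  haveI : IsScalarTower A S Γ(XS A S X, V) := IsScalarTower.of_algebraMap_eq' rfl
  haveI : IsScalarTower A Γ(X, U) Γ(XS A S X, V) :=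
    IsScalarTower.of_algebraMap_eq' (by
      ext a
      exact (appLE_toSections A S hV a).symm)
  have hp : Algebra.IsPushout A Γ(X, U) S Γ(XS A S X, V) := algebra_isPushout_sections A S hV hU
  unfold sectionsBasis
  rw [Module.Basis.map_apply, Algebra.TensorProduct.basis_apply, IsBaseChange.equiv_tmul, one_smul]
  rfl

end Alg

end Groth.Agent.H70.Rees
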