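import Mathlib
import Groth.Agent.H70.Rees.ChartRing

/-!
# The Rees set-up: sections of the Rees sheaf over affine charts (general `S → T`)
-/

set_option autoImplicit false
universe u
open CategoryTheory Limits AlgebraicGeometry Opposite TopologicalSpace TensorProduct

namespace Groth.Agent.H70.Rees

open Groth.Agent.Lead.SubRange Groth.Agent.H44

section Nat

/-- Naturality of `toSections`: for `h : Z ⟶ Y` over `Spec φ`, `h^♯ (σ|_V) = (φ σ)|_W`. -/
theorem appLE_toSections_of_comm {S T : Type u} [CommRing S] [CommRing T] (φ : S →+* T)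
    {Y Z : Scheme.{u}} [Y.Over (Spec (CommRingCat.of S))] [Z.Over (Spec (CommRingCat.of T))]
    (h : Z ⟶ Y)
    (hh : h ≫ (Y ↘ Spec (CommRingCat.of S)) =
      (Z ↘ Spec (CommRingCat.of T)) ≫ Spec.map (CommRingCat.ofHom φ))
    (V : Y.Opens) (W : Z.Opens) (e : W ≤ h ⁻¹ᵁ V) (σ : S) :
    (h.appLE V W e).hom (toSections (A := S) Y V σ) = toSections (A := T) Z W (φ σ) := by
  have key : CommRingCat.ofHom (toSections (A := S) Y V) ≫ h.appLE V W e =
      CommRingCat.ofHom φ ≫ CommRingCat.ofHom (toSections (A := T) Z W) := by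
    rw [toSections_eq, toSections_eq, Category.assoc, Scheme.Hom.appLE_comp_appLE]
    simp only [hh]
    have h1 := Scheme.Hom.appLE_comp_appLE (Z ↘ Spec (CommRingCat.of T))
      (Spec.map (CommRingCat.ofHom φ)) ⊤ ⊤ W le_top le_top
    have h2 : (Spec.map (CommRingCat.ofHom φ)).appLE ⊤ ⊤ le_top =
        (Spec.map (CommRingCat.ofHom φ)).appTop := by
      simp [Scheme.Hom.appLE]
    rw [← h1, h2, ← Category.assoc, ← Scheme.ΓSpecIso_inv_naturality, Category.assoc]
  exact congr($key σ)

end Nat

variable (A S T : Type u) [CommRing A] [CommRing S] [CommRing T] [Algebra A S] [Algebra A T]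
  [Algebra S T] [IsScalarTower A S T]
  {X : Scheme.{u}} [X.Over (Spec (CommRingCat.of A))]

/-- `W = h⁻¹(g⁻¹U) ⊆ X_T`. -/
noncomputable abbrev WT (U : X.Opens) : (XS A T X).Opens := hST A S T X ⁻¹ᵁ (VS A S U)

theorem WT_eq (U : X.Opens) : WT A S T U = gS A T X ⁻¹ᵁ U := by
  change hST A S T X ⁻¹ᵁ (gS A S X ⁻¹ᵁ U) = _
  rw [← Scheme.Hom.comp_preimage, hST_gS]

theorem isAffineOpen_WT {U : X.Opens} (hU : IsAffineOpen U) : IsAffineOpen (WT A S T U) :=
  (isAffineOpen_VS A S hU).preimage (hST A S T X)

theorem hST_over : hST A S T X ≫ (XS A S X ↘ Spec (CommRingCat.of S)) =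
    (XS A T X ↘ Spec (CommRingCat.of T)) ≫ Spec.map (CommRingCat.ofHom (algebraMap S T)) :=
  hST_sS A S T X

/-- `h^♯(σ|_V) = (σ)|_W`. -/
theorem hST_app_toSections (U : X.Opens) (σ : S) :
    ((hST A S T X).app (VS A S U)).hom (toSections (A := S) (XS A S X) (VS A S U) σ) =
      toSections (A := T) (XS A T X) (WT A S T U) (algebraMap S T σ) := by
  have := appLE_toSections_of_comm (algebraMap S T) (hST A S T X) (hST_over A S T)
    (VS A S U) (WT A S T U) le_rfl σ
  rwa [← Scheme.Hom.app_eq_appLE] at this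

variable (F : X.Modules)

/-- The doubly pulled-back section `h^* g^* s ∈ Γ(W, h^* g^* F) = Γ(V, amb F)`. -/
noncomputable def pp (U : X.Opens) (s : Γ(F, U)) : Γ(amb A S T F, VS A S U) :=
  OmegaSh.pullSect (hST A S T X) ((Scheme.Modules.pullback (gS A S X)).obj F) (VS A S U)
    (OmegaSh.pullSect (gS A S X) F U s)

theorem ηR_app_pullSect (U : X.Opens) (s : Γ(F, U)) :
    (ηR A S T F).app (VS A S U) (OmegaSh.pullSect (gS A S X) F U s) = pp A S T F U s := rfl

theorem pp_add (U : X.Opens) (s s' : Γ(F, U)) :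
    pp A S T F U (s + s') = pp A S T F U s + pp A S T F U s' := by
  unfold pp
  rw [map_add, map_add]
  rfl

theorem pp_zero (U : X.Opens) : pp A S T F U 0 = 0 := by
  unfold pp
  rw [map_zero, map_zero]
  rfl

/-- `pp` is semilinear along `g^♯ : Γ(X, U) → Γ(X_S, V)`. -/
theorem pp_smul (U : X.Opens) (b : Γ(X, U)) (s : Γ(F, U)) :
    pp A S T F U (b • s) = ((gS A S X).app U).hom b • pp A S T F U s := by
  unfold pp
  rw [OmegaSh.pullSect_smul, OmegaSh.pullSect_smul]
  rfl

section Range

variable [F.IsQuasicoherent] {U : X.Opens}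

/-- The generators `σ · h^*g^*s` (`σ ∈ S`, `s ∈ Γ(U, F)`) of the sections of the Rees sheaf. -/
def gens (U : X.Opens) : Set Γ(amb A S T F, VS A S U) :=
  {x | ∃ (σ : S) (s : Γ(F, U)),
    x = toSections (A := S) (XS A S X) (VS A S U) σ • pp A S T F U s}

theorem smul_pp_mem_closure (hU : IsAffineOpen U) (τ : Γ(XS A S X, VS A S U)) :
    ∀ s : Γ(F, U), τ • pp A S T F U s ∈ AddSubgroup.closure (gens A S T F U) := by
  refine sections_induction A S (V := VS A S U) rfl hU
    (fun τ => ∀ s : Γ(F, U), τ • pp A S T F U s ∈ AddSubgroup.closure (gens A S T F U))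
    ?_ ?_ ?_ ?_ τ
  · intro s
    rw [zero_smul]
    exact zero_mem _
  · intro σ s
    exact AddSubgroup.subset_closure ⟨σ, s, rfl⟩
  · intro b x hx s
    rw [mul_comm, mul_smul, ← Scheme.Hom.app_eq_appLE, ← pp_smul]
    exact hx _
  · intro x y hx hy s
    rw [add_smul]
    exact add_mem (hx s) (hy s)

set_option maxRecDepth 4000 in
/-- **Sections of the Rees sheaf over `V = g⁻¹U`, `U` affine** (general `S → T`): inside
`Γ(V, h_* h^* g^* F)` they form the additive subgroup generated by the `σ · h^*g^*s`. -/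
theorem mem_rng_Rι_iff (hU : IsAffineOpen U) (x : Γ(amb A S T F, VS A S U)) :
    x ∈ rng (Rι A S T F) (VS A S U) ↔ x ∈ AddSubgroup.closure (gens A S T F U) := by
  have hV : IsAffineOpen (VS A S U) := isAffineOpen_VS A S hU
  have h1 : rng (Rι A S T F) (VS A S U) = rng (ηR A S T F) (VS A S U) :=
    rng_image_ι (ηR A S T F) hV
  rw [h1]
  constructor
  · rintro ⟨y, rfl⟩
    letI := ((gS A S X).appLE U (VS A S U) le_rfl).hom.toAlgebra
    let E := pullbackSectionsEquiv (gS A S X) F hV hU le_rfl
    have key : ∀ t : Γ(XS A S X, VS A S U) ⊗[Γ(X, U)] Γ(F, U),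
        (ηR A S T F).app (VS A S U) (E.symm t) ∈ AddSubgroup.closure (gens A S T F U) := by
      intro t
      induction t using TensorProduct.induction_on with
      | zero =>
        rw [map_zero, map_zero]
        exact zero_mem _
      | add a b ha hb =>
        rw [map_add, map_add]
        exact add_mem ha hb
      | tmul τ s =>
        have h2 : (τ ⊗ₜ[Γ(X, U)] s : Γ(XS A S X, VS A S U) ⊗[Γ(X, U)] Γ(F, U)) =
            τ • ((1 : Γ(XS A S X, VS A S U)) ⊗ₜ[Γ(X, U)] s) := by
          rw [TensorProduct.smul_tmul', smul_eq_mul, mul_one]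
        have h3 := pullbackSectionsEquiv_pullSectLE (gS A S X) F hV hU le_rfl s
        rw [pullSectLE_self] at h3
        rw [h2, _root_.map_smul, ← h3, LinearEquiv.symm_apply_apply,
          Scheme.Modules.Hom.app_smul, ηR_app_pullSect]
        exact smul_pp_mem_closure A S T F hU τ s
    have := key (E y)
    rwa [LinearEquiv.symm_apply_apply] at this
  · intro hx
    refine AddSubgroup.closure_induction (p := fun x _ => x ∈ rng (ηR A S T F) (VS A S U))
      ?_ ?_ ?_ ?_ hx
    · rintro _ ⟨σ, s, rfl⟩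
      refine ⟨toSections (A := S) (XS A S X) (VS A S U) σ • OmegaSh.pullSect (gS A S X) F U s, ?_⟩
      rw [appLin_apply, Scheme.Modules.Hom.app_smul, ηR_app_pullSect]
    · exact zero_mem _
    · intro x y _ _ hx hy
      exact add_mem hx hy
    · intro x _ hx
      exact neg_mem hx

end Range

section Equivariance

/-- The module `h^* g^* F` on `X_T`. -/
noncomputable abbrev HG : (XS A T X).Modules :=
  (Scheme.Modules.pullback (hST A S T X)).obj ((Scheme.Modules.pullback (gS A S X)).obj F)

/-- `pp`, typed in `Γ(W, h^* g^* F)`. -/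
noncomputable def ppW (U : X.Opens) (s : Γ(F, U)) : Γ(HG A S T F, WT A S T U) := pp A S T F U s

theorem ppW_add (U : X.Opens) (s s' : Γ(F, U)) :
    ppW A S T F U (s + s') = ppW A S T F U s + ppW A S T F U s' := pp_add A S T F U s s'

theorem ppW_zero (U : X.Opens) : ppW A S T F U 0 = 0 := pp_zero A S T F U

/-- The action of `σ ∈ S` on `Γ(V, h_* h^* g^* F)` is the action of its image in `T` on
`Γ(W, h^* g^* F)`. -/
theorem toSections_smul_amb (U : X.Opens) (σ : S) (x : Γ(amb A S T F, VS A S U)) :
    toSections (A := S) (XS A S X) (VS A S U) σ • x =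
      (show Γ(amb A S T F, VS A S U) from
        (toSections (A := T) (XS A T X) (WT A S T U) (algebraMap S T σ) •
          (show Γ(HG A S T F, WT A S T U) from x))) := by
  rw [← hST_app_toSections]
  rfl

/-- `pp` is semilinear over `A`: `h^*g^*(a • s) = a • h^*g^*s` (action through `T`). -/
theorem ppW_smul_of_A (U : X.Opens) (a : A) (s : Γ(F, U)) :
    ppW A S T F U (toSections (A := A) X U a • s) =
      toSections (A := T) (XS A T X) (WT A S T U) (algebraMap A T a) • ppW A S T F U s := by
  have h1 : pp A S T F U (toSections (A := A) X U a • s) =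
      toSections (A := S) (XS A S X) (VS A S U) (algebraMap A S a) • pp A S T F U s := by
    rw [pp_smul, Scheme.Hom.app_eq_appLE, appLE_toSections A S (V := VS A S U) rfl]
  have h2 := toSections_smul_amb A S T F U (algebraMap A S a) (pp A S T F U s)
  rw [← IsScalarTower.algebraMap_apply] at h2
  exact h1.trans h2

end Equivariance

section Basis

variable {ι : Type*} (b : Module.Basis ι A T)

/-- For an `A`-basis `b` of `T`: the map `(s_i)_i ↦ Σ_i b_i · h^*g^*s_i` into `Γ(W, h^* g^* F)`. -/
noncomputable def PhiB (U : X.Opens) (f : ι →₀ Γ(F, U)) : Γ(HG A S T F, WT A S T U) :=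
  f.sum fun i s => toSections (A := T) (XS A T X) (WT A S T U) (b i) • ppW A S T F U s

theorem PhiB_add (U : X.Opens) (f f' : ι →₀ Γ(F, U)) :
    PhiB A S T F b U (f + f') = PhiB A S T F b U f + PhiB A S T F b U f' := by
  unfold PhiB
  refine Finsupp.sum_add_index' ?_ ?_
  · intro i
    rw [ppW_zero, smul_zero]
  · intro i s s'
    rw [ppW_add, smul_add]

theorem PhiB_zero (U : X.Opens) : PhiB A S T F b U 0 = 0 := Finsupp.sum_zero_index

theorem PhiB_single (U : X.Opens) (i : ι) (s : Γ(F, U)) :
    PhiB A S T F b U (Finsupp.single i s) =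
      toSections (A := T) (XS A T X) (WT A S T U) (b i) • ppW A S T F U s := by
  unfold PhiB
  rw [Finsupp.sum_single_index]
  rw [ppW_zero, smul_zero]

/-- The comparison isomorphism `h^* g^* F ≅ g_T^* F`. -/
noncomputable def HGiso : HG A S T F ≅ (Scheme.Modules.pullback (gS A T X)).obj F :=
  (Scheme.Modules.pullbackComp (hST A S T X) (gS A S X)).app F ≪≫
    (Scheme.Modules.pullbackCongr (hST_gS A S T X)).app F

theorem HGiso_hom_ppW (U : X.Opens) (s : Γ(F, U)) :
    (HGiso A S T F).hom.app (WT A S T U) (ppW A S T F U s) =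
      pullSectLE (gS A T X) F U (WT A S T U) (WT_eq A S T U).le s := by
  have h1 : ppW A S T F U s = pullSectLE (hST A S T X) ((Scheme.Modules.pullback (gS A S X)).obj F)
      (VS A S U) (WT A S T U) le_rfl (pullSectLE (gS A S X) F U (VS A S U) le_rfl s) := by
    rw [pullSectLE_self, pullSectLE_self]
    rfl
  rw [h1]
  unfold HGiso
  rw [Iso.trans_hom, Scheme.Modules.Hom.comp_app, ConcreteCategory.comp_apply]
  erw [pullbackComp_hom_app (hST A S T X) (gS A S X) F U (VS A S U) (WT A S T U) le_rfl le_rfl s]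
  erw [pullbackCongr_hom_app (hST_gS A S T X) F U (WT A S T U) _ s]

set_option maxRecDepth 4000 in
/-- **The ambient sections are free on the basis.** For `U` affine and `F` quasi-coherent,
`(s_i)_i ↦ Σ_i b_i · h^*g^*s_i` is a bijection `⨁_i Γ(U, F) → Γ(W, h^* g^* F)`. -/
theorem PhiB_bijective [F.IsQuasicoherent] {U : X.Opens} (hU : IsAffineOpen U) :
    Function.Bijective (PhiB A S T F b U) := by
  classical
  have hW := WT_eq A S T U
  have hWaff : IsAffineOpen (WT A S T U) := isAffineOpen_WT A S T hU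
  letI := algUV A T hW.le
  let PSE := pullbackSectionsEquiv (gS A T X) F hWaff hU hW.le
  let bas := sectionsBasis A T hW hU b
  let e := HGiso A S T F
  -- `ε` is bijective
  have hε1 : ∀ y, e.inv.app (WT A S T U) (e.hom.app (WT A S T U) y) = y := by
    intro y
    rw [← ConcreteCategory.comp_apply, ← Scheme.Modules.Hom.comp_app, Iso.hom_inv_id]
    rfl
  have hε2 : ∀ y, e.hom.app (WT A S T U) (e.inv.app (WT A S T U) y) = y := by
    intro y
    rw [← ConcreteCategory.comp_apply, ← Scheme.Modules.Hom.comp_app, Iso.inv_hom_id]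
    rfl
  have key : ∀ f : ι →₀ Γ(F, U), PSE (e.hom.app (WT A S T U) (PhiB A S T F b U f)) =
      (TensorProduct.equivFinsuppOfBasisLeft bas).symm f := by
    intro f
    rw [TensorProduct.equivFinsuppOfBasisLeft_symm_apply]
    unfold PhiB Finsupp.sum
    rw [map_sum, map_sum]
    refine Finset.sum_congr rfl fun i _ => ?_
    have hb : bas i = toSections (A := T) (XS A T X) (WT A S T U) (b i) :=
      sectionsBasis_apply A T hW hU b i
    rw [Scheme.Modules.Hom.app_smul, _root_.map_smul, HGiso_hom_ppW,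
      pullbackSectionsEquiv_pullSectLE, TensorProduct.smul_tmul', smul_eq_mul, mul_one]
    change _ = bas i ⊗ₜ[Γ(X, U)] f i
    rw [hb]
  constructor
  · intro f f' hff
    have := congrArg (fun y => PSE (e.hom.app (WT A S T U) y)) hff
    simp only [key] at this
    exact (TensorProduct.equivFinsuppOfBasisLeft bas).symm.injective this
  · intro y
    refine ⟨TensorProduct.equivFinsuppOfBasisLeft bas (PSE (e.hom.app (WT A S T U) y)), ?_⟩
    have h1 := key (TensorProduct.equivFinsuppOfBasisLeft bas (PSE (e.hom.app (WT A S T U) y)))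
    rw [LinearEquiv.symm_apply_apply] at h1
    have h2 := PSE.injective h1
    have h3 := congrArg (fun z => e.inv.app (WT A S T U) z) h2
    simp only [hε1] at h3
    exact h3

end Basis

end Groth.Agent.H70.Rees
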