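import Mathlib
import Groth.Agent.H70.Rees.Chart

/-!
# The Rees set-up over affine charts, for a general affine morphism `h : Z ⟶ X_S`

Same results as in `Chart.lean`, but for an arbitrary affine `h : Z ⟶ X_S` with `Z` over `Spec T`
compatibly (instead of the specific `hST : X_T ⟶ X_S`).  This covers the tower construction
`Z = X_S ×_S Spec T` used in `Groth.Agent.H65.Rees`.
-/

set_option autoImplicit false
universe u
open CategoryTheory Limits AlgebraicGeometry Opposite TopologicalSpace TensorProduct

namespace Groth.Agent.H70.Rees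

open Groth.Agent.Lead.SubRange Groth.Agent.H44

variable (A S : Type u) [CommRing A] [CommRing S] [Algebra A S]
  {X : Scheme.{u}} [X.Over (Spec (CommRingCat.of A))]
  {Z : Scheme.{u}} (h : Z ⟶ XS A S X) (F : X.Modules)

/-- The ambient module `h_* h^* g^* F` on `X_S`. -/
noncomputable def ambH : (XS A S X).Modules :=
  (Scheme.Modules.pushforward h).obj
    ((Scheme.Modules.pullback h).obj ((Scheme.Modules.pullback (gS A S X)).obj F))

/-- The unit `g^* F ⟶ h_* h^* g^* F`. -/
noncomputable def ηH : (Scheme.Modules.pullback (gS A S X)).obj F ⟶ ambH A S h F :=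
  (Scheme.Modules.pullbackPushforwardAdjunction h).unit.app _

/-- The Rees sheaf: the image of `g^*F ⟶ h_* h^* g^* F`. -/
noncomputable def RshH : (XS A S X).Modules := Limits.image (ηH A S h F)

/-- The inclusion of the Rees sheaf into the ambient module. -/
noncomputable def RιH : RshH A S h F ⟶ ambH A S h F := Limits.image.ι (ηH A S h F)

instance isQuasicoherent_ambH [IsAffineHom h] [F.IsQuasicoherent] :
    (ambH A S h F).IsQuasicoherent :=
  Groth.Agent.H8.isQuasicoherent_pushforward_of_isAffineHom _ _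

/-- `W = h⁻¹(g⁻¹U) ⊆ Z`. -/
noncomputable abbrev WH (U : X.Opens) : Z.Opens := h ⁻¹ᵁ (VS A S U)

theorem isAffineOpen_WH [IsAffineHom h] {U : X.Opens} (hU : IsAffineOpen U) :
    IsAffineOpen (WH A S h U) :=
  (isAffineOpen_VS A S hU).preimage h

/-- The doubly pulled-back section `h^* g^* s ∈ Γ(W, h^* g^* F) = Γ(V, h_* h^* g^* F)`. -/
noncomputable def ppH (U : X.Opens) (s : Γ(F, U)) : Γ(ambH A S h F, VS A S U) :=
  OmegaSh.pullSect h ((Scheme.Modules.pullback (gS A S X)).obj F) (VS A S U)
    (OmegaSh.pullSect (gS A S X) F U s)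

theorem ηH_app_pullSect (U : X.Opens) (s : Γ(F, U)) :
    (ηH A S h F).app (VS A S U) (OmegaSh.pullSect (gS A S X) F U s) = ppH A S h F U s := rfl

theorem ppH_add (U : X.Opens) (s s' : Γ(F, U)) :
    ppH A S h F U (s + s') = ppH A S h F U s + ppH A S h F U s' := by
  unfold ppH
  rw [map_add, map_add]
  rfl

theorem ppH_zero (U : X.Opens) : ppH A S h F U 0 = 0 := by
  unfold ppH
  rw [map_zero, map_zero]
  rfl

/-- `ppH` is semilinear along `g^♯ : Γ(X, U) → Γ(X_S, V)`. -/
theorem ppH_smul (U : X.Opens) (b : Γ(X, U)) (s : Γ(F, U)) :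
    ppH A S h F U (b • s) = ((gS A S X).app U).hom b • ppH A S h F U s := by
  unfold ppH
  rw [OmegaSh.pullSect_smul, OmegaSh.pullSect_smul]
  rfl

section Range

variable [IsAffineHom h] [F.IsQuasicoherent] {U : X.Opens}

/-- The generators `σ · h^*g^*s` (`σ ∈ S`, `s ∈ Γ(U, F)`) of the sections of the Rees sheaf. -/
def gensH (U : X.Opens) : Set Γ(ambH A S h F, VS A S U) :=
  {x | ∃ (σ : S) (s : Γ(F, U)),
    x = toSections (A := S) (XS A S X) (VS A S U) σ • ppH A S h F U s}

omit [IsAffineHom h] in
theorem smul_ppH_mem_closure (hU : IsAffineOpen U) (τ : Γ(XS A S X, VS A S U)) :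
    ∀ s : Γ(F, U), τ • ppH A S h F U s ∈ AddSubgroup.closure (gensH A S h F U) := by
  refine sections_induction A S (V := VS A S U) rfl hU
    (fun τ => ∀ s : Γ(F, U), τ • ppH A S h F U s ∈ AddSubgroup.closure (gensH A S h F U))
    ?_ ?_ ?_ ?_ τ
  · intro s
    rw [zero_smul]
    exact zero_mem _
  · intro σ s
    exact AddSubgroup.subset_closure ⟨σ, s, rfl⟩
  · intro b x hx s
    rw [mul_comm, mul_smul, ← Scheme.Hom.app_eq_appLE, ← ppH_smul]
    exact hx _
  · intro x y hx hy s
    rw [add_smul]
    exact add_mem (hx s) (hy s)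

set_option maxRecDepth 4000 in
/-- **Sections of the Rees sheaf over `V = g⁻¹U`, `U` affine**: inside `Γ(V, h_* h^* g^* F)` they form
the additive subgroup generated by the `σ · h^*g^*s`. -/
theorem mem_rng_RιH_iff (hU : IsAffineOpen U) (x : Γ(ambH A S h F, VS A S U)) :
    x ∈ rng (RιH A S h F) (VS A S U) ↔ x ∈ AddSubgroup.closure (gensH A S h F U) := by
  have hV : IsAffineOpen (VS A S U) := isAffineOpen_VS A S hU
  have h1 : rng (RιH A S h F) (VS A S U) = rng (ηH A S h F) (VS A S U) :=
    rng_image_ι (ηH A S h F) hV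
  rw [h1]
  constructor
  · rintro ⟨y, rfl⟩
    letI := ((gS A S X).appLE U (VS A S U) le_rfl).hom.toAlgebra
    let E := pullbackSectionsEquiv (gS A S X) F hV hU le_rfl
    have key : ∀ t : Γ(XS A S X, VS A S U) ⊗[Γ(X, U)] Γ(F, U),
        (ηH A S h F).app (VS A S U) (E.symm t) ∈ AddSubgroup.closure (gensH A S h F U) := by
      intro t
      induction t using TensorProduct.induction_on with
      | zero =>
        rw [map_zero, map_zero]
        exact zero_mem _
      | add a b ha hb =>
        rw [map_add, map_add]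
        exact add_mem ha hb
      | tmul τ s =>
        have h2 : (τ ⊗ₜ[Γ(X, U)] s : Γ(XS A S X, VS A S U) ⊗[Γ(X, U)] Γ(F, U)) =
            τ • ((1 : Γ(XS A S X, VS A S U)) ⊗ₜ[Γ(X, U)] s) := by
          rw [TensorProduct.smul_tmul', smul_eq_mul, mul_one]
        have h3 := pullbackSectionsEquiv_pullSectLE (gS A S X) F hV hU le_rfl s
        rw [pullSectLE_self] at h3
        rw [h2, _root_.map_smul, ← h3, LinearEquiv.symm_apply_apply,
          Scheme.Modules.Hom.app_smul, ηH_app_pullSect]
        exact smul_ppH_mem_closure A S h F hU τ s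
    have := key (E y)
    rwa [LinearEquiv.symm_apply_apply] at this
  · intro hx
    refine AddSubgroup.closure_induction (p := fun x _ => x ∈ rng (ηH A S h F) (VS A S U))
      ?_ ?_ ?_ ?_ hx
    · rintro _ ⟨σ, s, rfl⟩
      refine ⟨toSections (A := S) (XS A S X) (VS A S U) σ • OmegaSh.pullSect (gS A S X) F U s, ?_⟩
      rw [appLin_apply, Scheme.Modules.Hom.app_smul, ηH_app_pullSect]
    · exact zero_mem _
    · intro x y _ _ hx hy
      exact add_mem hx hy
    · intro x _ hx
      exact neg_mem hx

end Range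

section Equivariance

variable {T : Type u} [CommRing T] [Algebra S T] [Z.Over (Spec (CommRingCat.of T))]
  (hh : h ≫ (XS A S X ↘ Spec (CommRingCat.of S)) =
    (Z ↘ Spec (CommRingCat.of T)) ≫ Spec.map (CommRingCat.ofHom (algebraMap S T)))

include hh in
/-- `h^♯(σ|_V) = (σ)|_W`. -/
theorem h_app_toSections (U : X.Opens) (σ : S) :
    (h.app (VS A S U)).hom (toSections (A := S) (XS A S X) (VS A S U) σ) =
      toSections (A := T) Z (WH A S h U) (algebraMap S T σ) := by
  have := appLE_toSections_of_comm (algebraMap S T) h hh (VS A S U) (WH A S h U) le_rfl σ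
  rwa [← Scheme.Hom.app_eq_appLE] at this

/-- The module `h^* g^* F` on `Z`. -/
noncomputable abbrev HGH : Z.Modules :=
  (Scheme.Modules.pullback h).obj ((Scheme.Modules.pullback (gS A S X)).obj F)

/-- `ppH`, typed in `Γ(W, h^* g^* F)`. -/
noncomputable def ppWH (U : X.Opens) (s : Γ(F, U)) : Γ(HGH A S h F, WH A S h U) := ppH A S h F U s

theorem ppWH_add (U : X.Opens) (s s' : Γ(F, U)) :
    ppWH A S h F U (s + s') = ppWH A S h F U s + ppWH A S h F U s' := ppH_add A S h F U s s'

theorem ppWH_zero (U : X.Opens) : ppWH A S h F U 0 = 0 := ppH_zero A S h F U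

include hh in
/-- The action of `σ ∈ S` on `Γ(V, h_* h^* g^* F)` is the action of its image in `T` on
`Γ(W, h^* g^* F)`. -/
theorem toSections_smul_ambH (U : X.Opens) (σ : S) (x : Γ(ambH A S h F, VS A S U)) :
    toSections (A := S) (XS A S X) (VS A S U) σ • x =
      (show Γ(ambH A S h F, VS A S U) from
        (toSections (A := T) Z (WH A S h U) (algebraMap S T σ) •
          (show Γ(HGH A S h F, WH A S h U) from x))) := by
  rw [← h_app_toSections A S h hh]
  rfl

include hh in
/-- `ppH` is semilinear over `A`: `h^*g^*(a • s) = a • h^*g^*s` (action through `T`). -/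
theorem ppWH_smul_of_A [Algebra A T] [IsScalarTower A S T] (U : X.Opens) (a : A) (s : Γ(F, U)) :
    ppWH A S h F U (toSections (A := A) X U a • s) =
      toSections (A := T) Z (WH A S h U) (algebraMap A T a) • ppWH A S h F U s := by
  have h1 : ppH A S h F U (toSections (A := A) X U a • s) =
      toSections (A := S) (XS A S X) (VS A S U) (algebraMap A S a) • ppH A S h F U s := by
    rw [ppH_smul, Scheme.Hom.app_eq_appLE, appLE_toSections A S (V := VS A S U) rfl]
  have h2 := toSections_smul_ambH A S h F hh U (algebraMap A S a) (ppH A S h F U s)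
  rw [← IsScalarTower.algebraMap_apply] at h2
  exact h1.trans h2

end Equivariance

section Basis

variable {T : Type u} [CommRing T] [Algebra A T] [Z.Over (Spec (CommRingCat.of T))]
  {ι : Type*} (b : Module.Basis ι A T)

/-- For an `A`-basis `b` of `T`: the map `(s_i)_i ↦ Σ_i b_i · h^*g^*s_i` into `Γ(W, h^* g^* F)`. -/
noncomputable def PhiBH (U : X.Opens) (f : ι →₀ Γ(F, U)) : Γ(HGH A S h F, WH A S h U) :=
  f.sum fun i s => toSections (A := T) Z (WH A S h U) (b i) • ppWH A S h F U s

theorem PhiBH_add (U : X.Opens) (f f' : ι →₀ Γ(F, U)) :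
    PhiBH A S h F b U (f + f') = PhiBH A S h F b U f + PhiBH A S h F b U f' := by
  unfold PhiBH
  refine Finsupp.sum_add_index' ?_ ?_
  · intro i
    rw [ppWH_zero, smul_zero]
  · intro i s s'
    rw [ppWH_add, smul_add]

theorem PhiBH_zero (U : X.Opens) : PhiBH A S h F b U 0 = 0 := Finsupp.sum_zero_index

theorem PhiBH_single (U : X.Opens) (i : ι) (s : Γ(F, U)) :
    PhiBH A S h F b U (Finsupp.single i s) =
      toSections (A := T) Z (WH A S h U) (b i) • ppWH A S h F U s := by
  unfold PhiBH
  rw [Finsupp.sum_single_index]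
  rw [ppWH_zero, smul_zero]

/-- The comparison isomorphism `h^* g^* F ≅ (h ≫ g)^* F`. -/
noncomputable def HGHiso : HGH A S h F ≅ (Scheme.Modules.pullback (h ≫ gS A S X)).obj F :=
  (Scheme.Modules.pullbackComp h (gS A S X)).app F

theorem HGHiso_hom_ppWH (U : X.Opens) (s : Γ(F, U)) :
    (HGHiso A S h F).hom.app (WH A S h U) (ppWH A S h F U s) =
      pullSectLE (h ≫ gS A S X) F U (WH A S h U) le_rfl s := by
  have h1 : ppWH A S h F U s = pullSectLE h ((Scheme.Modules.pullback (gS A S X)).obj F)
      (VS A S U) (WH A S h U) le_rfl (pullSectLE (gS A S X) F U (VS A S U) le_rfl s) := by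
    rw [pullSectLE_self, pullSectLE_self]
    rfl
  rw [h1]
  unfold HGHiso
  erw [pullbackComp_hom_app h (gS A S X) F U (VS A S U) (WH A S h U) le_rfl le_rfl s]

set_option maxRecDepth 4000 in
/-- **The ambient sections are free on the basis.** For `U` affine and `F` quasi-coherent, if
`Γ(Z, W)` is free over `Γ(X, U)` on the images of the `b i`, then `(s_i)_i ↦ Σ_i b_i · h^*g^*s_i`
is a bijection `⨁_i Γ(U, F) → Γ(W, h^* g^* F)`. -/
theorem PhiBH_bijective [IsAffineHom h] [F.IsQuasicoherent] {U : X.Opens} (hU : IsAffineOpen U)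
    (bas : letI := ((h ≫ gS A S X).appLE U (WH A S h U) le_rfl).hom.toAlgebra
      Module.Basis ι Γ(X, U) Γ(Z, WH A S h U))
    (hbas : ∀ i, bas i = toSections (A := T) Z (WH A S h U) (b i)) :
    Function.Bijective (PhiBH A S h F b U) := by
  classical
  have hWaff : IsAffineOpen (WH A S h U) := isAffineOpen_WH A S h hU
  letI := ((h ≫ gS A S X).appLE U (WH A S h U) le_rfl).hom.toAlgebra
  let PSE := pullbackSectionsEquiv (h ≫ gS A S X) F hWaff hU le_rfl
  let e := HGHiso A S h F
  have hε1 : ∀ y, e.inv.app (WH A S h U) (e.hom.app (WH A S h U) y) = y := by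
    intro y
    rw [← ConcreteCategory.comp_apply, ← Scheme.Modules.Hom.comp_app, Iso.hom_inv_id]
    rfl
  have key : ∀ f : ι →₀ Γ(F, U), PSE (e.hom.app (WH A S h U) (PhiBH A S h F b U f)) =
      (TensorProduct.equivFinsuppOfBasisLeft bas).symm f := by
    intro f
    rw [TensorProduct.equivFinsuppOfBasisLeft_symm_apply]
    unfold PhiBH Finsupp.sum
    rw [map_sum, map_sum]
    refine Finset.sum_congr rfl fun i _ => ?_
    rw [Scheme.Modules.Hom.app_smul, _root_.map_smul, HGHiso_hom_ppWH,
      pullbackSectionsEquiv_pullSectLE, TensorProduct.smul_tmul', smul_eq_mul, mul_one]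
    change _ = bas i ⊗ₜ[Γ(X, U)] f i
    rw [hbas]
  constructor
  · intro f f' hff
    have := congrArg (fun y => PSE (e.hom.app (WH A S h U) y)) hff
    simp only [key] at this
    exact (TensorProduct.equivFinsuppOfBasisLeft bas).symm.injective this
  · intro y
    refine ⟨TensorProduct.equivFinsuppOfBasisLeft bas (PSE (e.hom.app (WH A S h U) y)), ?_⟩
    have h1 := key (TensorProduct.equivFinsuppOfBasisLeft bas (PSE (e.hom.app (WH A S h U) y)))
    rw [LinearEquiv.symm_apply_apply] at h1
    have h2 := PSE.injective h1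
    have h3 := congrArg (fun z => e.inv.app (WH A S h U) z) h2
    simp only [hε1] at h3
    exact h3

end Basis

end Groth.Agent.H70.Rees
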