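import Mathlib
import Groth.Agent.H70.Rees.Chart
import Groth.Agent.H70.Rees.Graded

/-!
# Sections of the Rees sheaf `⨁_k I^k F t^k` over affine charts (piece R2 of the REES chain)

`S = reesAlgebra I ⊆ T = A[X]`.  For `U ⊆ X` affine and `F` quasi-coherent, with `V = g⁻¹U ⊆ X_S` and
`W = h⁻¹V ⊆ X_T`:
* `PhiR_bijective` (D1): `(s_k)_k ↦ Σ_k t^k · h^*g^*s_k` is a bijection `⨁_k Γ(U, F) → Γ(W, h^*g^*F)`;
* `mem_rng_Rι_iff_rees` (D2): the sections of the Rees sheaf over `V` are the `Σ_k t^k · h^*g^*s_k` with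
  `s_k ∈ I^k Γ(U, F)`;
* `mon_smul_PhiR_single` (D3): `(a t^r) · (t^k · h^*g^*s) = t^(k+r) · h^*g^*(a s)`.
-/

set_option autoImplicit false
universe u
open CategoryTheory Limits AlgebraicGeometry Opposite TopologicalSpace TensorProduct Polynomial

namespace Groth.Agent.H70.Rees

open Groth.Agent.Lead.SubRange Groth.Agent.H44

variable {A : Type u} [CommRing A] (I : Ideal A)
  {X : Scheme.{u}} [X.Over (Spec (CommRingCat.of A))] (F : X.Modules)

/-- `(s_k)_k ↦ Σ_k t^k · h^*g^*s_k`, for the Rees algebra inside `A[X]`, with values in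
`Γ(W, h^* g^* F)`. -/
noncomputable def PhiR (U : X.Opens) (f : ℕ →₀ Γ(F, U)) :
    Γ(HG A ↥(reesAlgebra I) A[X] F, WT A ↥(reesAlgebra I) A[X] U) :=
  PhiB A ↥(reesAlgebra I) A[X] F (Polynomial.basisMonomials A) U f

/-- `PhiR`, typed in `Γ(V, h_* h^* g^* F)` (the same set). -/
noncomputable def PhiRV (U : X.Opens) (f : ℕ →₀ Γ(F, U)) :
    Γ(amb A ↥(reesAlgebra I) A[X] F, VS A ↥(reesAlgebra I) U) :=
  PhiR I F U f

/-- `PhiRV` as an additive map. -/
noncomputable def PhiRVHom (U : X.Opens) :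
    (ℕ →₀ Γ(F, U)) →+ Γ(amb A ↥(reesAlgebra I) A[X] F, VS A ↥(reesAlgebra I) U) where
  toFun := PhiRV I F U
  map_zero' := PhiB_zero A ↥(reesAlgebra I) A[X] F (Polynomial.basisMonomials A) U
  map_add' := PhiB_add A ↥(reesAlgebra I) A[X] F (Polynomial.basisMonomials A) U

theorem PhiRVHom_apply (U : X.Opens) (f : ℕ →₀ Γ(F, U)) : PhiRVHom I F U f = PhiRV I F U f := rfl

/-- (D1) -/
theorem PhiR_bijective [F.IsQuasicoherent] {U : X.Opens} (hU : IsAffineOpen U) :
    Function.Bijective (PhiR I F U) :=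
  PhiB_bijective A ↥(reesAlgebra I) A[X] F (Polynomial.basisMonomials A) hU

theorem PhiRV_bijective [F.IsQuasicoherent] {U : X.Opens} (hU : IsAffineOpen U) :
    Function.Bijective (PhiRV I F U) :=
  PhiR_bijective I F hU

/-- The submodule `I^k Γ(U, F)` of `Γ(U, F)`. -/
noncomputable def powSections (k : ℕ) (U : X.Opens) : Submodule Γ(X, U) Γ(F, U) :=
  ((I ^ k).map (toSections (A := A) X U)) • (⊤ : Submodule Γ(X, U) Γ(F, U))

theorem powSections_eq_rng [F.IsQuasicoherent] (k : ℕ) {U : X.Opens} (hU : IsAffineOpen U) :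
    powSections I F k U = rng (CohIII.idealMulι (I ^ k) F) U :=
  (rng_idealMulι (I ^ k) F hU).symm

/-- (D3), basic form: the monomial `c t^e` of the Rees algebra acts on `h^*g^*s` as
`t^e · h^*g^*(c s)`. -/
theorem mon_smul_pp (U : X.Opens) (e : ℕ) (c : ↥(I ^ e)) (s : Γ(F, U)) :
    toSections (A := ↥(reesAlgebra I)) (XS A ↥(reesAlgebra I) X) (VS A ↥(reesAlgebra I) U)
        (mon I e c) • pp A ↥(reesAlgebra I) A[X] F U s =
      PhiRV I F U (Finsupp.single e (toSections (A := A) X U (c : A) • s)) := by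
  rw [toSections_smul_amb]
  change toSections (A := A[X]) (XS A A[X] X) (WT A ↥(reesAlgebra I) A[X] U)
      (algebraMap ↥(reesAlgebra I) A[X] (mon I e c)) • ppW A ↥(reesAlgebra I) A[X] F U s =
    PhiR I F U _
  unfold PhiR
  rw [PhiB_single, ppW_smul_of_A, ← mul_smul, ← map_mul]
  congr 2
  change Polynomial.monomial e (c : A) = _
  rw [Polynomial.coe_basisMonomials, Polynomial.algebraMap_apply, Algebra.algebraMap_self_apply,
    mul_comm, Polynomial.C_mul_monomial, mul_one]

theorem smul_mem_powSections (U : X.Opens) (e : ℕ) (c : ↥(I ^ e)) (s : Γ(F, U)) :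
    toSections (A := A) X U (c : A) • s ∈ powSections I F e U :=
  Submodule.smul_mem_smul (Ideal.mem_map_of_mem _ c.2) Submodule.mem_top

/-- `t^k · h^*g^*m` is a section of the Rees sheaf for `m ∈ I^k Γ(U, F)`. -/
theorem PhiRV_single_mem_closure (U : X.Opens) (k : ℕ) (m : Γ(F, U))
    (hm : m ∈ powSections I F k U) :
    PhiRV I F U (Finsupp.single k m) ∈
      AddSubgroup.closure (gens A ↥(reesAlgebra I) A[X] F U) := by
  unfold powSections at hm
  refine Submodule.smul_induction_on hm ?_ ?_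
  · intro r hr n _
    suffices H : ∀ n : Γ(F, U), PhiRV I F U (Finsupp.single k (r • n)) ∈
        AddSubgroup.closure (gens A ↥(reesAlgebra I) A[X] F U) from H n
    refine Submodule.span_induction (p := fun r _ => ∀ n : Γ(F, U),
      PhiRV I F U (Finsupp.single k (r • n)) ∈
        AddSubgroup.closure (gens A ↥(reesAlgebra I) A[X] F U)) ?_ ?_ ?_ ?_ hr
    · rintro _ ⟨c, hc, rfl⟩ n
      rw [← mon_smul_pp I F U k ⟨c, hc⟩ n]
      exact AddSubgroup.subset_closure ⟨_, _, rfl⟩
    · intro n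
      rw [zero_smul, Finsupp.single_zero, ← PhiRVHom_apply, map_zero]
      exact zero_mem _
    · intro r r' _ _ hr hr' n
      rw [add_smul, Finsupp.single_add, ← PhiRVHom_apply, map_add]
      exact add_mem (hr n) (hr' n)
    · intro d r _ hr n
      rw [smul_eq_mul, mul_comm, mul_smul]
      exact hr _
  · intro m m' hm hm'
    rw [Finsupp.single_add, ← PhiRVHom_apply, map_add]
    exact add_mem hm hm'

/-- (D2) **Sections of the Rees sheaf over `V = g⁻¹U`, `U` affine**: they are the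
`Σ_k t^k · h^*g^*s_k` with `s_k ∈ I^k Γ(U, F)`. -/
theorem mem_rng_Rι_iff_rees [F.IsQuasicoherent] {U : X.Opens} (hU : IsAffineOpen U)
    (x : Γ(amb A ↥(reesAlgebra I) A[X] F, VS A ↥(reesAlgebra I) U)) :
    x ∈ rng (Rι A ↥(reesAlgebra I) A[X] F) (VS A ↥(reesAlgebra I) U) ↔
      ∃ f : ℕ →₀ Γ(F, U), (∀ k, f k ∈ powSections I F k U) ∧ x = PhiRV I F U f := by
  rw [mem_rng_Rι_iff A ↥(reesAlgebra I) A[X] F hU]
  constructor
  · intro hx
    refine AddSubgroup.closure_induction (p := fun x _ => ∃ f : ℕ →₀ Γ(F, U),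
      (∀ k, f k ∈ powSections I F k U) ∧ x = PhiRV I F U f) ?_ ?_ ?_ ?_ hx
    · rintro _ ⟨σ, s, rfl⟩
      rw [eq_sum_mon I σ, map_sum, Finset.sum_smul]
      refine Finset.sum_induction _ (fun x => ∃ f : ℕ →₀ Γ(F, U),
        (∀ k, f k ∈ powSections I F k U) ∧ x = PhiRV I F U f) ?_ ?_ ?_
      · rintro x y ⟨f, hf, rfl⟩ ⟨f', hf', rfl⟩
        exact ⟨f + f', fun k => by rw [Finsupp.add_apply]; exact add_mem (hf k) (hf' k),
          ((PhiRVHom I F U).map_add f f').symm⟩
      · exact ⟨0, fun k => by rw [Finsupp.zero_apply]; exact zero_mem _,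
          ((PhiRVHom I F U).map_zero).symm⟩
      · intro e _
        refine ⟨Finsupp.single e (toSections (A := A) X U ((σ : A[X]).coeff e) • s), ?_,
          mon_smul_pp I F U e ⟨_, σ.2 e⟩ s⟩
        intro k
        by_cases hk : e = k
        · subst hk
          rw [Finsupp.single_eq_same]
          exact smul_mem_powSections I F U e ⟨_, σ.2 e⟩ s
        · rw [Finsupp.single_eq_of_ne' hk]
          exact zero_mem _
    · exact ⟨0, fun k => by rw [Finsupp.zero_apply]; exact zero_mem _,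
        ((PhiRVHom I F U).map_zero).symm⟩
    · rintro x y _ _ ⟨f, hf, rfl⟩ ⟨f', hf', rfl⟩
      exact ⟨f + f', fun k => by rw [Finsupp.add_apply]; exact add_mem (hf k) (hf' k),
        ((PhiRVHom I F U).map_add f f').symm⟩
    · rintro x _ ⟨f, hf, rfl⟩
      exact ⟨-f, fun k => by rw [Finsupp.neg_apply]; exact neg_mem (hf k),
        ((PhiRVHom I F U).map_neg f).symm⟩
  · rintro ⟨f, hf, rfl⟩
    have h1 : f = ∑ k ∈ f.support, Finsupp.single k (f k) := by
      conv_lhs => rw [← Finsupp.sum_single f]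
      rfl
    rw [h1, ← PhiRVHom_apply, map_sum]
    exact sum_mem fun k _ => PhiRV_single_mem_closure I F U k (f k) (hf k)

/-- (D3) `(a t^r) · (t^k · h^*g^*s) = t^(k+r) · h^*g^*(a s)`. -/
theorem mon_smul_PhiRV_single (U : X.Opens) (r k : ℕ) (a : ↥(I ^ r)) (s : Γ(F, U)) :
    toSections (A := ↥(reesAlgebra I)) (XS A ↥(reesAlgebra I) X) (VS A ↥(reesAlgebra I) U)
        (mon I r a) • PhiRV I F U (Finsupp.single k s) =
      PhiRV I F U (Finsupp.single (k + r) (toSections (A := A) X U (a : A) • s)) := by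
  rw [toSections_smul_amb]
  change toSections (A := A[X]) (XS A A[X] X) (WT A ↥(reesAlgebra I) A[X] U)
      (algebraMap ↥(reesAlgebra I) A[X] (mon I r a)) • PhiR I F U (Finsupp.single k s) =
    PhiR I F U _
  unfold PhiR
  rw [PhiB_single, PhiB_single, ppW_smul_of_A, ← mul_smul, ← mul_smul, ← map_mul, ← map_mul]
  congr 2
  change Polynomial.monomial r (a : A) * _ = _
  rw [Polynomial.coe_basisMonomials, Polynomial.algebraMap_apply,
    Algebra.algebraMap_self_apply]
  simp only [Polynomial.monomial_mul_monomial, mul_one]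
  rw [mul_comm, Polynomial.C_mul_monomial, mul_one, add_comm]

end Groth.Agent.H70.Rees
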