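import Mathlib
import Groth.Agent.H70.Rees.ChartGen
import Groth.Agent.H70.Rees.ReesChart

/-!
# Sections of the Rees sheaf over affine charts, for a general affine `h : Z ⟶ X_S` over
`Spec A[X] ⟶ Spec (reesAlgebra I)`

Same results as `ReesChart.lean` in the generality of `ChartGen.lean`.
-/

set_option autoImplicit false
universe u
open CategoryTheory Limits AlgebraicGeometry Opposite TopologicalSpace TensorProduct Polynomial

namespace Groth.Agent.H70.Rees

open Groth.Agent.Lead.SubRange Groth.Agent.H44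

variable {A : Type u} [CommRing A] (I : Ideal A)
  {X : Scheme.{u}} [X.Over (Spec (CommRingCat.of A))]
  {Z : Scheme.{u}} (h : Z ⟶ XS A ↥(reesAlgebra I) X) [Z.Over (Spec (CommRingCat.of A[X]))]
  (hh : h ≫ (XS A ↥(reesAlgebra I) X ↘ Spec (CommRingCat.of ↥(reesAlgebra I))) =
    (Z ↘ Spec (CommRingCat.of A[X])) ≫
      Spec.map (CommRingCat.ofHom (algebraMap ↥(reesAlgebra I) A[X])))
  (F : X.Modules)

/-- `(s_k)_k ↦ Σ_k t^k · h^*g^*s_k` with values in `Γ(W, h^* g^* F)`. -/
noncomputable def PhiRH (U : X.Opens) (f : ℕ →₀ Γ(F, U)) :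
    Γ(HGH A ↥(reesAlgebra I) h F, WH A ↥(reesAlgebra I) h U) :=
  PhiBH A ↥(reesAlgebra I) h F (Polynomial.basisMonomials A) U f

/-- `PhiRH`, typed in `Γ(V, h_* h^* g^* F)` (the same set). -/
noncomputable def PhiRVH (U : X.Opens) (f : ℕ →₀ Γ(F, U)) :
    Γ(ambH A ↥(reesAlgebra I) h F, VS A ↥(reesAlgebra I) U) :=
  PhiRH I h F U f

/-- `PhiRVH` as an additive map. -/
noncomputable def PhiRVHHom (U : X.Opens) :
    (ℕ →₀ Γ(F, U)) →+ Γ(ambH A ↥(reesAlgebra I) h F, VS A ↥(reesAlgebra I) U) where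
  toFun := PhiRVH I h F U
  map_zero' := PhiBH_zero A ↥(reesAlgebra I) h F (Polynomial.basisMonomials A) U
  map_add' := PhiBH_add A ↥(reesAlgebra I) h F (Polynomial.basisMonomials A) U

theorem PhiRVHHom_apply (U : X.Opens) (f : ℕ →₀ Γ(F, U)) :
    PhiRVHHom I h F U f = PhiRVH I h F U f := rfl

include hh in
/-- The monomial `c t^e` of the Rees algebra acts on `h^*g^*s` as `t^e · h^*g^*(c s)`. -/
theorem mon_smul_ppH (U : X.Opens) (e : ℕ) (c : ↥(I ^ e)) (s : Γ(F, U)) :
    toSections (A := ↥(reesAlgebra I)) (XS A ↥(reesAlgebra I) X) (VS A ↥(reesAlgebra I) U)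
        (mon I e c) • ppH A ↥(reesAlgebra I) h F U s =
      PhiRVH I h F U (Finsupp.single e (toSections (A := A) X U (c : A) • s)) := by
  rw [toSections_smul_ambH A ↥(reesAlgebra I) h F hh]
  change toSections (A := A[X]) Z (WH A ↥(reesAlgebra I) h U)
      (algebraMap ↥(reesAlgebra I) A[X] (mon I e c)) • ppWH A ↥(reesAlgebra I) h F U s =
    PhiRH I h F U _
  unfold PhiRH
  rw [PhiBH_single, ppWH_smul_of_A A ↥(reesAlgebra I) h F hh, ← mul_smul, ← map_mul]
  congr 2
  change Polynomial.monomial e (c : A) = _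
  rw [Polynomial.coe_basisMonomials, Polynomial.algebraMap_apply, Algebra.algebraMap_self_apply,
    mul_comm, Polynomial.C_mul_monomial, mul_one]

include hh in
/-- `t^k · h^*g^*m` is a section of the Rees sheaf for `m ∈ I^k Γ(U, F)`. -/
theorem PhiRVH_single_mem_closure (U : X.Opens) (k : ℕ) (m : Γ(F, U))
    (hm : m ∈ powSections I F k U) :
    PhiRVH I h F U (Finsupp.single k m) ∈
      AddSubgroup.closure (gensH A ↥(reesAlgebra I) h F U) := by
  unfold powSections at hm
  refine Submodule.smul_induction_on hm ?_ ?_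
  · intro r hr n _
    suffices H : ∀ n : Γ(F, U), PhiRVH I h F U (Finsupp.single k (r • n)) ∈
        AddSubgroup.closure (gensH A ↥(reesAlgebra I) h F U) from H n
    refine Submodule.span_induction (p := fun r _ => ∀ n : Γ(F, U),
      PhiRVH I h F U (Finsupp.single k (r • n)) ∈
        AddSubgroup.closure (gensH A ↥(reesAlgebra I) h F U)) ?_ ?_ ?_ ?_ hr
    · rintro _ ⟨c, hc, rfl⟩ n
      rw [← mon_smul_ppH I h hh F U k ⟨c, hc⟩ n]
      exact AddSubgroup.subset_closure ⟨_, _, rfl⟩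
    · intro n
      rw [zero_smul, Finsupp.single_zero, ← PhiRVHHom_apply, map_zero]
      exact zero_mem _
    · intro r r' _ _ hr hr' n
      rw [add_smul, Finsupp.single_add, ← PhiRVHHom_apply, map_add]
      exact add_mem (hr n) (hr' n)
    · intro d r _ hr n
      rw [smul_eq_mul, mul_comm, mul_smul]
      exact hr _
  · intro m m' hm hm'
    rw [Finsupp.single_add, ← PhiRVHHom_apply, map_add]
    exact add_mem hm hm'

include hh in
/-- **Sections of the Rees sheaf over `V = g⁻¹U`, `U` affine**: they are the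
`Σ_k t^k · h^*g^*s_k` with `s_k ∈ I^k Γ(U, F)`. -/
theorem mem_rng_RιH_iff_rees [IsAffineHom h] [F.IsQuasicoherent] {U : X.Opens}
    (hU : IsAffineOpen U)
    (x : Γ(ambH A ↥(reesAlgebra I) h F, VS A ↥(reesAlgebra I) U)) :
    x ∈ rng (RιH A ↥(reesAlgebra I) h F) (VS A ↥(reesAlgebra I) U) ↔
      ∃ f : ℕ →₀ Γ(F, U), (∀ k, f k ∈ powSections I F k U) ∧ x = PhiRVH I h F U f := by
  rw [mem_rng_RιH_iff A ↥(reesAlgebra I) h F hU]
  constructor
  · intro hx
    refine AddSubgroup.closure_induction (p := fun x _ => ∃ f : ℕ →₀ Γ(F, U),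
      (∀ k, f k ∈ powSections I F k U) ∧ x = PhiRVH I h F U f) ?_ ?_ ?_ ?_ hx
    · rintro _ ⟨σ, s, rfl⟩
      rw [eq_sum_mon I σ, map_sum, Finset.sum_smul]
      refine Finset.sum_induction _ (fun x => ∃ f : ℕ →₀ Γ(F, U),
        (∀ k, f k ∈ powSections I F k U) ∧ x = PhiRVH I h F U f) ?_ ?_ ?_
      · rintro x y ⟨f, hf, rfl⟩ ⟨f', hf', rfl⟩
        exact ⟨f + f', fun k => by rw [Finsupp.add_apply]; exact add_mem (hf k) (hf' k),
          ((PhiRVHHom I h F U).map_add f f').symm⟩
      · exact ⟨0, fun k => by rw [Finsupp.zero_apply]; exact zero_mem _,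
          ((PhiRVHHom I h F U).map_zero).symm⟩
      · intro e _
        refine ⟨Finsupp.single e (toSections (A := A) X U ((σ : A[X]).coeff e) • s), ?_,
          mon_smul_ppH I h hh F U e ⟨_, σ.2 e⟩ s⟩
        intro k
        by_cases hk : e = k
        · subst hk
          rw [Finsupp.single_eq_same]
          exact smul_mem_powSections I F U e ⟨_, σ.2 e⟩ s
        · rw [Finsupp.single_eq_of_ne' hk]
          exact zero_mem _
    · exact ⟨0, fun k => by rw [Finsupp.zero_apply]; exact zero_mem _,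
        ((PhiRVHHom I h F U).map_zero).symm⟩
    · rintro x y _ _ ⟨f, hf, rfl⟩ ⟨f', hf', rfl⟩
      exact ⟨f + f', fun k => by rw [Finsupp.add_apply]; exact add_mem (hf k) (hf' k),
        ((PhiRVHHom I h F U).map_add f f').symm⟩
    · rintro x _ ⟨f, hf, rfl⟩
      exact ⟨-f, fun k => by rw [Finsupp.neg_apply]; exact neg_mem (hf k),
        ((PhiRVHHom I h F U).map_neg f).symm⟩
  · rintro ⟨f, hf, rfl⟩
    have h1 : f = ∑ k ∈ f.support, Finsupp.single k (f k) := by
      conv_lhs => rw [← Finsupp.sum_single f]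
      rfl
    rw [h1, ← PhiRVHHom_apply, map_sum]
    exact sum_mem fun k _ => PhiRVH_single_mem_closure I h hh F U k (f k) (hf k)

end Groth.Agent.H70.Rees
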