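import Mathlib
import Groth.Agent.H70.Rees.ReesGen

/-!
# The tower `Z = X_S ×_S Spec T ⟶ X_S ⟶ X`

For `A → S → T`, `Y = X_S = X ×_A Spec S` and `Z = Y ×_S Spec T`: the ring of sections of `Z` over
`h⁻¹g⁻¹U` is `Γ(X, U) ⊗_A T` (pasting of pushouts); in particular it is free over `Γ(X, U)` when `T` is
free over `A`.  This is the set-up of `Groth.Agent.H65.Rees`.
-/

set_option autoImplicit false
universe u
open CategoryTheory Limits AlgebraicGeometry Opposite TopologicalSpace TensorProduct Polynomial

namespace Groth.Agent.H70.Rees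

/-- A basis of the pushout `P = B ⊗_A T` over `B` from a basis of `T` over `A`. -/
theorem exists_basis_of_isPushout {A B T P : Type u} [CommRing A] [CommRing B] [CommRing T]
    [CommRing P] [Algebra A T] (φ : A →+* B) (β : B →+* P) (ψ : T →+* P)
    (hpo : IsPushout (CommRingCat.ofHom φ) (CommRingCat.ofHom (algebraMap A T))
      (CommRingCat.ofHom β) (CommRingCat.ofHom ψ)) {ι : Type*} (b : Module.Basis ι A T) :
    letI := β.toAlgebra
    ∃ bas : Module.Basis ι B P, ∀ i, bas i = ψ (b i) := by
  letI : Algebra A B := φ.toAlgebra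
  letI : Algebra B P := β.toAlgebra
  letI : Algebra T P := ψ.toAlgebra
  letI : Algebra A P := (ψ.comp (algebraMap A T)).toAlgebra
  haveI : IsScalarTower A T P := IsScalarTower.of_algebraMap_eq' rfl
  haveI : IsScalarTower A B P := IsScalarTower.of_algebraMap_eq' (by
    have := hpo.w
    ext a
    exact (congr($this a)).symm)
  have hp : Algebra.IsPushout A B T P := CommRingCat.isPushout_iff_isPushout.1 hpo
  refine ⟨(Algebra.TensorProduct.basis B b).map hp.out.equiv, fun i => ?_⟩
  rw [Module.Basis.map_apply, Algebra.TensorProduct.basis_apply, IsBaseChange.equiv_tmul, one_smul]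
  rfl

variable (A S T : Type u) [CommRing A] [CommRing S] [CommRing T] [Algebra A S] [Algebra A T]
  [Algebra S T] [IsScalarTower A S T]
  (X : Scheme.{u}) [X.Over (Spec (CommRingCat.of A))]

/-- `Z = X_S ×_S Spec T`. -/
noncomputable abbrev ZT : Scheme.{u} := XS S T (XS A S X)

/-- `h : Z ⟶ X_S`. -/
noncomputable abbrev hT : ZT A S T X ⟶ XS A S X := gS S T (XS A S X)

theorem hT_over : hT A S T X ≫ (XS A S X ↘ Spec (CommRingCat.of S)) =
    (ZT A S T X ↘ Spec (CommRingCat.of T)) ≫ Spec.map (CommRingCat.ofHom (algebraMap S T)) :=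
  gS_comp_over S T (XS A S X)

variable {X}

/-- The pasted pushout square `Γ(Z, h⁻¹g⁻¹U) = Γ(X, U) ⊗_A T`. -/
theorem isPushout_sections_tower {U : X.Opens} (hU : IsAffineOpen U) :
    IsPushout (CommRingCat.ofHom (toSections (A := A) X U))
      (CommRingCat.ofHom (algebraMap A T))
      ((hT A S T X ≫ gS A S X).appLE U (WH A S (hT A S T X) U) le_rfl)
      (CommRingCat.ofHom (toSections (A := T) (ZT A S T X) (WH A S (hT A S T X) U))) := by
  have sq1 := isPushout_sections A S (X := X) (U := U) (V := VS A S U) rfl hU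
  have sq2 := isPushout_sections S T (X := XS A S X) (U := VS A S U)
    (V := VS S T (VS A S U)) rfl (isAffineOpen_VS A S hU)
  have sq := sq1.paste_vert sq2
  rw [Scheme.Hom.appLE_comp_appLE, ← CommRingCat.ofHom_comp,
    ← IsScalarTower.algebraMap_eq] at sq
  exact sq

/-- `Γ(Z, h⁻¹g⁻¹U)` is free over `Γ(X, U)` on the images of a basis of `T` over `A`. -/
theorem exists_basis_tower {U : X.Opens} (hU : IsAffineOpen U) {ι : Type*}
    (b : Module.Basis ι A T) :
    letI := ((hT A S T X ≫ gS A S X).appLE U (WH A S (hT A S T X) U) le_rfl).hom.toAlgebra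
    ∃ bas : Module.Basis ι Γ(X, U) Γ(ZT A S T X, WH A S (hT A S T X) U),
      ∀ i, bas i = toSections (A := T) (ZT A S T X) (WH A S (hT A S T X) U) (b i) :=
  exists_basis_of_isPushout (toSections (A := A) X U)
    ((hT A S T X ≫ gS A S X).appLE U (WH A S (hT A S T X) U) le_rfl).hom
    (toSections (A := T) (ZT A S T X) (WH A S (hT A S T X) U))
    (isPushout_sections_tower A S T hU) b

/-- (D1) for the tower: `(s_i)_i ↦ Σ_i b_i · h^*g^*s_i` is bijective. -/
theorem PhiBH_bijective_tower (F : X.Modules) [F.IsQuasicoherent] {U : X.Opens}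
    (hU : IsAffineOpen U) {ι : Type*} (b : Module.Basis ι A T) :
    Function.Bijective (PhiBH A S (hT A S T X) F b U) := by
  obtain ⟨bas, hbas⟩ := exists_basis_tower A S T hU b
  exact PhiBH_bijective A S (hT A S T X) F b hU bas hbas

end Groth.Agent.H70.Rees
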