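import Mathlib
import Groth.Agent.H65.Rees.Spec
import Groth.Agent.H70.Rees.Tower

/-!
# (R2) of the REES chain on the objects of `Groth.Agent.H65.Rees`

`r2a : R2a I X F` and `r2b : R2b I X F` for `F` quasi-coherent, in the exact shapes of
`Groth/Agent/H65/Rees/Spec.lean`.
-/

set_option autoImplicit false
universe u
open CategoryTheory Limits AlgebraicGeometry Opposite TopologicalSpace TensorProduct Polynomial

namespace Groth.Agent.H70.Rees

open Groth.Agent.Lead.SubRange Groth.Agent.H44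

variable {A : Type u} [CommRing A] (I : Ideal A) (X : Scheme.{u})
  [X.Over (Spec (CommRingCat.of A))] (F : X.Modules)


/-- `t^k` acts on sections of the ambient module as the image of `X^k`. -/
theorem τpow_app (k : ℕ) (U : X.Opens)
    (x : Γ(HGH A ↥(reesAlgebra I) (hT A ↥(reesAlgebra I) A[X] X) F, WH A ↥(reesAlgebra I) (hT A ↥(reesAlgebra I) A[X] X) U)) :
    (Groth.Agent.H65.Rees.τpow I X F k).app U x =
      toSections (A := A[X]) (ZT A ↥(reesAlgebra I) A[X] X) (WH A ↥(reesAlgebra I) (hT A ↥(reesAlgebra I) A[X] X) U)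
        (Polynomial.X ^ k) • x := by
  induction k with
  | zero =>
    rw [pow_zero, map_one, one_smul]
    rfl
  | succ k ih =>
    change (Groth.Agent.H65.Rees.τ I X F).app U ((Groth.Agent.H65.Rees.τpow I X F k).app U x) = _
    rw [ih, pow_succ, map_mul, mul_comm, mul_smul]
    rfl

/-- `tk k` on sections: `s ↦ t^k · h^*g^*s`. -/
theorem tk_app (k : ℕ) (U : X.Opens) (s : Γ(F, U)) :
    (Groth.Agent.H65.Rees.tk I X F k).app U s =
      PhiRVH I (hT A ↥(reesAlgebra I) A[X] X) F U (Finsupp.single k s) := by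
  change (Groth.Agent.H65.Rees.τpow I X F k).app U (ppWH A ↥(reesAlgebra I) (hT A ↥(reesAlgebra I) A[X] X) F U s) = _
  rw [τpow_app]
  change _ = PhiRH I (hT A ↥(reesAlgebra I) A[X] X) F U _
  unfold PhiRH
  rw [PhiBH_single, Polynomial.coe_basisMonomials, Polynomial.X_pow_eq_monomial]

theorem sum_tk_app (U : X.Opens) (T : Finset ℕ) (m : ℕ → Γ(F, U)) :
    ∑ k ∈ T, (Groth.Agent.H65.Rees.tk I X F k).app U (m k) =
      PhiRVH I (hT A ↥(reesAlgebra I) A[X] X) F U (∑ k ∈ T, Finsupp.single k (m k)) := by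
  rw [← PhiRVHHom_apply, map_sum]
  exact Finset.sum_congr rfl fun k _ => tk_app I X F k U (m k)

/-- (R2a) on the objects of `H65.Rees`. -/
theorem r2a [F.IsQuasicoherent] : Groth.Agent.H65.Rees.R2a I X F := by
  intro U hU T m hsum k hk
  rw [sum_tk_app] at hsum
  have hinj := (PhiBH_bijective_tower A ↥(reesAlgebra I) A[X] F hU (Polynomial.basisMonomials A)).1
  have h0 : PhiRVH I (hT A ↥(reesAlgebra I) A[X] X) F U 0 = 0 := (PhiRVHHom I (hT A ↥(reesAlgebra I) A[X] X) F U).map_zero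
  have h1 : (∑ k ∈ T, Finsupp.single k (m k) : ℕ →₀ Γ(F, U)) = 0 :=
    hinj (hsum.trans h0.symm)
  have h2 := congrArg (fun f : ℕ →₀ Γ(F, U) => f k) h1
  simp only [Finsupp.finset_sum_apply, Finsupp.zero_apply, Finsupp.single_apply] at h2
  rw [Finset.sum_ite_eq' T k] at h2
  simpa [hk] using h2

theorem powSections_le_IkM (U : X.Opens) (k : ℕ) (m : Γ(F, U)) (hm : m ∈ powSections I F k U) :
    m ∈ Groth.Agent.H65.Rees.IkM I X F U k := by
  unfold powSections at hm
  refine Submodule.smul_induction_on hm ?_ ?_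
  · intro r hr n _
    suffices H : ∀ n : Γ(F, U), r • n ∈ Groth.Agent.H65.Rees.IkM I X F U k from H n
    refine Submodule.span_induction (p := fun r _ => ∀ n : Γ(F, U),
      r • n ∈ Groth.Agent.H65.Rees.IkM I X F U k) ?_ ?_ ?_ ?_ hr
    · rintro _ ⟨c, hc, rfl⟩ n
      exact AddSubgroup.subset_closure ⟨c, hc, n, rfl⟩
    · intro n
      rw [zero_smul]
      exact zero_mem _
    · intro r r' _ _ hr hr' n
      rw [add_smul]
      exact add_mem (hr n) (hr' n)
    · intro d r _ hr n
      rw [smul_eq_mul, mul_comm, mul_smul]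
      exact hr _
  · intro m m' hm hm'
    exact add_mem hm hm'

/-- (R2b) on the objects of `H65.Rees`. -/
theorem r2b [F.IsQuasicoherent] : Groth.Agent.H65.Rees.R2b I X F := by
  intro U hU s
  have hx : (Groth.Agent.H65.Rees.jj I X F).app U s ∈
      rng (RιH A ↥(reesAlgebra I) (hT A ↥(reesAlgebra I) A[X] X) F) (VS A ↥(reesAlgebra I) U) := ⟨s, rfl⟩
  obtain ⟨f, hf, hfx⟩ := (mem_rng_RιH_iff_rees I (hT A ↥(reesAlgebra I) A[X] X) (hT_over A ↥(reesAlgebra I) A[X] X) F hU _).1 hx
  refine ⟨f.support, f, fun k _ => powSections_le_IkM I X F U k (f k) (hf k), ?_⟩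
  rw [sum_tk_app]
  have h1 : (∑ k ∈ f.support, Finsupp.single k (f k)) = f := Finsupp.sum_single f
  rw [h1]
  exact hfx

end Groth.Agent.H70.Rees
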